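import Mathlib
import Cfsg.Prelude.Def_LieExceptional
import Cfsg.Agent.S0065
import Cfsg.Agent.Lib.Transfer.Hall

/-!
Groups in which the centralizer of every non-identity element is nilpotent: maximal nilpotent subgroups.
-/

set_option autoImplicit false
open Subgroup

namespace Cfsg.Agent.Lib.CNGroup

variable {G : Type*} [Group G]

/-- A nilpotent subgroup contained in no larger nilpotent subgroup. -/
def IsMaxNil (H : Subgroup G) : Prop :=
  Group.IsNilpotent H ∧ ∀ L : Subgroup G, Group.IsNilpotent L → H ≤ L → L = H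

theorem nil_mono {A B : Subgroup G} (hB : Group.IsNilpotent B) (h : A ≤ B) : Group.IsNilpotent A :=
  (Group.isNilpotent_congr (subgroupOfEquivOfLe h)).mp inferInstance

theorem exists_maxNil [Finite G] {A : Subgroup G} (hA : Group.IsNilpotent A) :
    ∃ H, IsMaxNil H ∧ A ≤ H := by
  obtain ⟨H, hAH, hH⟩ := Finite.exists_le_maximal (p := fun K : Subgroup G => Group.IsNilpotent K)
    (a := A) hA
  exact ⟨H, ⟨hH.1, fun L hL hHL => le_antisymm (hH.2 hL hHL) hHL⟩, hAH⟩

theorem commute_of_nil [Finite G] {H : Subgroup G} (hH : Group.IsNilpotent H) {x y : G} (hx : x ∈ H)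
    (hy : y ∈ H) (h : (orderOf x).Coprime (orderOf y)) : Commute x y := by
  have := Lib.Transfer.commute_of_coprime_orderOf (x := (⟨x, hx⟩ : H)) (y := ⟨y, hy⟩)
    (by rwa [Subgroup.orderOf_mk, Subgroup.orderOf_mk])
  exact congrArg Subtype.val this

/-- An element is the product of a `p`-element and a `p'`-element, both powers of it. -/
theorem exists_decomp [Finite G] (x : G) {p : ℕ} (hp : p.Prime) :
    ∃ a ∈ zpowers x, ∃ b ∈ zpowers x, x = a * b ∧ (∃ k, orderOf a ∣ p ^ k) ∧ (orderOf b).Coprime p := by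
  obtain ⟨k, m, hm, hkm⟩ := Nat.exists_eq_pow_mul_and_not_dvd (orderOf_pos x).ne' p hp.ne_one
  have hc : Nat.gcd (p ^ k) m = 1 := Nat.Coprime.pow_left k (hp.coprime_iff_not_dvd.2 hm)
  have hb := Nat.gcd_eq_gcd_ab (p ^ k) m
  rw [hc] at hb
  refine ⟨x ^ ((m : ℤ) * Nat.gcdB (p ^ k) m), zpow_mem (mem_zpowers x) _,
    x ^ (((p ^ k : ℕ) : ℤ) * Nat.gcdA (p ^ k) m), zpow_mem (mem_zpowers x) _, ?_, ⟨k, ?_⟩, ?_⟩
  · rw [← zpow_add, add_comm, ← hb, Nat.cast_one, zpow_one]
  · refine orderOf_dvd_of_pow_eq_one ?_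
    rw [← zpow_natCast, ← zpow_mul, ← orderOf_dvd_iff_zpow_eq_one, hkm]
    exact ⟨Nat.gcdB (p ^ k) m, by push_cast; ring⟩
  · refine (hp.coprime_iff_not_dvd.2 hm).symm.coprime_dvd_left (orderOf_dvd_of_pow_eq_one ?_)
    rw [← zpow_natCast, ← zpow_mul, ← orderOf_dvd_iff_zpow_eq_one, hkm]
    exact ⟨Nat.gcdA (p ^ k) m, by push_cast; ring⟩

theorem mem_of_decomp [Finite G] {K : Subgroup G} (x : G) {p : ℕ} (hp : p.Prime)
    (ha : ∀ a ∈ zpowers x, (∃ k, orderOf a ∣ p ^ k) → a ∈ K)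
    (hb : ∀ b ∈ zpowers x, (orderOf b).Coprime p → b ∈ K) : x ∈ K := by
  obtain ⟨a, hax, b, hbx, e, hpa, hpb⟩ := exists_decomp x hp
  exact e ▸ mul_mem (ha a hax hpa) (hb b hbx hpb)

theorem coprime_of_pdvd {p : ℕ} {a b : G} (ha : ∃ k, orderOf a ∣ p ^ k) (hb : (orderOf b).Coprime p) :
    (orderOf a).Coprime (orderOf b) := by
  obtain ⟨k, hk⟩ := ha
  exact (hb.symm.pow_left k).coprime_dvd_left hk

theorem sylow_normal [Finite G] {H : Subgroup G} (hH : Group.IsNilpotent H) {p : ℕ} [Fact p.Prime]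
    (P : Sylow p H) : (P : Subgroup H).Normal :=
  Sylow.normal_of_normalizerCondition (Group.normalizerCondition_of_isNilpotent (h := hH)) P

/-- A nilpotent subgroup of order divisible by `p` has a central element of order `p`. -/
theorem exists_central_prime [Finite G] {H : Subgroup G} (hH : Group.IsNilpotent H) {p : ℕ}
    [hp : Fact p.Prime] (hdvd : p ∣ Nat.card H) :
    ∃ z ∈ H, orderOf z = p ∧ ∀ h ∈ H, Commute z h := by
  let P : Sylow p H := Classical.arbitrary _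
  have hPn := sylow_normal hH P
  have hne : (P : Subgroup H) ⊓ center H ≠ ⊥ := by
    refine S0065.inf_center_ne_bot hPn fun hb => ?_
    have := P.dvd_card_of_dvd_card hdvd
    rw [hb, card_bot, Nat.dvd_one] at this
    exact hp.out.ne_one this
  have hIp : IsPGroup p ↥((P : Subgroup H) ⊓ center H) := P.2.to_le inf_le_left
  haveI : Nontrivial ↥((P : Subgroup H) ⊓ center H) := (nontrivial_iff_ne_bot _).2 hne
  obtain ⟨n, hn0, hn⟩ := (IsPGroup.nontrivial_iff_card hIp).1 inferInstance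
  obtain ⟨⟨z, hzm⟩, hz⟩ := exists_prime_orderOf_dvd_card' p (hn ▸ dvd_pow_self p hn0.ne')
  obtain ⟨hzP, hzc⟩ := hzm
  rw [← Subgroup.orderOf_coe] at hz
  exact ⟨z, z.2, by rwa [Subgroup.orderOf_coe],
    fun h hh => congrArg Subtype.val (mem_center_iff.1 hzc ⟨h, hh⟩).symm⟩

variable [Finite G]

theorem cn_of_injective {M : Type*} [Group M] (hCN : Cfsg.IsCNGroup G) (φ : M →* G)
    (hφ : Function.Injective φ) : Cfsg.IsCNGroup M := by
  intro g hg
  have h1 : Group.IsNilpotent (centralizer ({φ g} : Set G)) :=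
    hCN _ fun e => hg (hφ (e.trans φ.map_one.symm))
  let f : ↥(centralizer ({g} : Set M)) →* ↥(centralizer ({φ g} : Set G)) :=
    (φ.comp (centralizer ({g} : Set M)).subtype).codRestrict _ fun x => by
      rw [mem_centralizer_singleton_iff]
      have := congrArg φ (mem_centralizer_singleton_iff.1 x.2)
      rw [map_mul, map_mul] at this; exact this
  have hf : Function.Injective f := fun a b e =>
    Subtype.ext (hφ (congrArg (fun z : ↥(centralizer ({φ g} : Set G)) => (z : G)) e))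
  exact (Group.isNilpotent_congr (MonoidHom.ofInjective hf)).mpr inferInstance

theorem cn_subgroup (hCN : Cfsg.IsCNGroup G) (M : Subgroup G) : Cfsg.IsCNGroup M :=
  cn_of_injective hCN M.subtype M.subtype_injective

theorem nil_map {K : Type*} [Group K] {H : Subgroup G} (hH : Group.IsNilpotent H) (f : G →* K) :
    Group.IsNilpotent (H.map f) :=
  Group.nilpotent_of_surjective (f.subgroupMap H) (f.subgroupMap_surjective H)

/-- A maximal nilpotent subgroup is the centralizer of each of its nontrivial central elements. -/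
theorem centralizer_eq (hCN : Cfsg.IsCNGroup G) {H : Subgroup G} (hH : IsMaxNil H) {z : G}
    (hz1 : z ≠ 1) (hzc : ∀ h ∈ H, Commute z h) : centralizer ({z} : Set G) = H :=
  hH.2 _ (hCN z hz1) fun h hh => mem_centralizer_singleton_iff.2 (hzc h hh).eq.symm

theorem mem_of_commute (hCN : Cfsg.IsCNGroup G) {H : Subgroup G} (hH : IsMaxNil H) {z c : G}
    (hz1 : z ≠ 1) (hzc : ∀ h ∈ H, Commute z h) (hc : Commute c z) : c ∈ H :=
  centralizer_eq hCN hH hz1 hzc ▸ mem_centralizer_singleton_iff.2 hc.eq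

theorem maxNil_ne_bot [Nontrivial G] {H : Subgroup G} (hH : IsMaxNil H) : H ≠ ⊥ := by
  intro hb
  obtain ⟨g, hg⟩ := exists_ne (1 : G)
  have : Group.IsNilpotent (zpowers g) := by
    open scoped IsMulCommutative in infer_instance
  have := hH.2 _ this (hb ▸ bot_le)
  rw [hb, zpowers_eq_bot] at this
  exact hg this

theorem ne_one_of_orderOf {p : ℕ} (hp : p.Prime) {z : G} (h : orderOf z = p) : z ≠ 1 := fun e => by
  rw [e, orderOf_one] at h; exact hp.ne_one h.symm

/-- A maximal nilpotent subgroup contains a Sylow subgroup for each prime dividing its order. -/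
theorem exists_sylow_le (hCN : Cfsg.IsCNGroup G) {H : Subgroup G} (hH : IsMaxNil H) {p : ℕ}
    [hp : Fact p.Prime] (hdvd : p ∣ Nat.card H) : ∃ P : Sylow p G, (P : Subgroup G) ≤ H := by
  obtain ⟨z, hzH, hzo, hzc⟩ := exists_central_prime hH.1 hdvd
  let P₀ : Sylow p H := Classical.arbitrary _
  have hP₀n := sylow_normal hH.1 P₀
  obtain ⟨P, hP⟩ := (P₀.2.map H.subtype).exists_le_sylow
  refine ⟨P, ?_⟩
  have hpe : ∀ a ∈ H, (∃ k, orderOf a ∣ p ^ k) → a ∈ (P : Subgroup G) := fun a ha ⟨k, hk⟩ => by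
    refine hP ⟨⟨a, ha⟩, ?_, rfl⟩
    have hpg : IsPGroup p (zpowers (⟨a, ha⟩ : H)) := by
      obtain ⟨j, -, hj⟩ := (Nat.dvd_prime_pow hp.out).1 hk
      exact IsPGroup.of_card (n := j) (by rw [Nat.card_zpowers, Subgroup.orderOf_mk, hj])
    obtain ⟨Q, hQ⟩ := hpg.exists_le_sylow
    haveI := Sylow.unique_of_normal P₀ hP₀n
    rw [Subsingleton.elim P₀ Q]
    exact hQ (mem_zpowers _)
  have hzP : z ∈ (P : Subgroup G) := hpe z hzH ⟨1, by rw [hzo, pow_one]⟩
  obtain ⟨w, hwP, hwo, hwc⟩ := exists_central_prime (H := (P : Subgroup G)) (p := p) P.2.isNilpotent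
    (by
      obtain ⟨n, hn⟩ := IsPGroup.iff_card.1 P.2
      have h := (P : Subgroup G).orderOf_dvd_natCard hzP
      rwa [hzo] at h)
  have hwH : w ∈ H := mem_of_commute hCN hH (ne_one_of_orderOf hp.out hzo) hzc (hwc z hzP)
  have hwcH : ∀ h ∈ H, Commute w h := fun h hh => by
    obtain ⟨a, hax, b, hbx, e, hpa, hpb⟩ := exists_decomp h hp.out
    have hbH : b ∈ H := zpowers_le.2 hh hbx
    rw [e]
    exact Commute.mul_right (hwc a (hpe a (zpowers_le.2 hh hax) hpa))
      (commute_of_nil hH.1 hwH hbH (by rw [hwo]; exact hpb.symm))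
  rw [← centralizer_eq hCN hH (ne_one_of_orderOf hp.out hwo) hwcH]
  exact fun x hx => mem_centralizer_singleton_iff.2 (hwc x hx).eq.symm

theorem coprime_index (hCN : Cfsg.IsCNGroup G) {H : Subgroup G} (hH : IsMaxNil H) :
    (Nat.card H).Coprime H.index := by
  refine Nat.coprime_of_dvd fun p hp h1 h2 => ?_
  haveI : Fact p.Prime := ⟨hp⟩
  obtain ⟨P, hP⟩ := exists_sylow_le hCN hH h1
  exact P.not_dvd_index (h2.trans (index_dvd_of_le hP))

theorem exists_pow_prime {a : G} (ha : a ≠ 1) :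
    ∃ (p : ℕ) (n : ℕ), p.Prime ∧ orderOf (a ^ n) = p := by
  obtain ⟨p, hp, hd⟩ := Nat.exists_prime_and_dvd (n := orderOf a) (fun h => ha (orderOf_eq_one_iff.1 h))
  exact ⟨p, orderOf a / p, hp, orderOf_pow_orderOf_div (orderOf_pos a).ne' hd⟩

/-- With two prime divisors every nontrivial element has its centralizer inside. -/
theorem centralizer_le_of_two (hCN : Cfsg.IsCNGroup G) {H : Subgroup G} (hH : IsMaxNil H) {p q : ℕ}
    (hp : p.Prime) (hq : q.Prime) (hpq : p ≠ q) (hpd : p ∣ Nat.card H) (hqd : q ∣ Nat.card H)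
    {a : G} (ha : a ∈ H) (ha1 : a ≠ 1) : centralizer ({a} : Set G) ≤ H := by
  haveI : Fact p.Prime := ⟨hp⟩
  haveI : Fact q.Prime := ⟨hq⟩
  obtain ⟨x, hxH, hxo, hxc⟩ := exists_central_prime hH.1 hpd
  obtain ⟨y, hyH, hyo, hyc⟩ := exists_central_prime hH.1 hqd
  have hN := hCN a ha1
  have hxC : x ∈ centralizer ({a} : Set G) := mem_centralizer_singleton_iff.2 (hxc a ha).eq
  have hyC : y ∈ centralizer ({a} : Set G) := mem_centralizer_singleton_iff.2 (hyc a ha).eq
  intro c hc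
  refine mem_of_decomp c hp (fun u hu hpu => ?_) fun v hv hpv => ?_
  · refine mem_of_commute hCN hH (ne_one_of_orderOf hq hyo) hyc
      (commute_of_nil hN (zpowers_le.2 hc hu) hyC (coprime_of_pdvd hpu ?_))
    rw [hyo]
    exact (Nat.coprime_primes hq hp).2 hpq.symm
  · refine mem_of_commute hCN hH (ne_one_of_orderOf hp hxo) hxc
      (commute_of_nil hN (zpowers_le.2 hc hv) hxC ?_)
    rw [hxo]
    exact hpv

/-- Two maximal nilpotent subgroups closed under centralizers that meet nontrivially are equal. -/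
theorem eq_of_meet (hCN : Cfsg.IsCNGroup G) {H K : Subgroup G} (hH : IsMaxNil H) (hK : IsMaxNil K)
    (hHc : ∀ a ∈ H, a ≠ 1 → centralizer ({a} : Set G) ≤ H)
    {x : G} (hx : x ∈ H) (hxK : x ∈ K) (hx1 : x ≠ 1) : K = H := by
  obtain ⟨p, hp, hd⟩ := Nat.exists_prime_and_dvd (n := Nat.card K)
    (fun h => hx1 (mem_bot.1 (K.eq_bot_of_card_eq h ▸ hxK)))
  haveI : Fact p.Prime := ⟨hp⟩
  obtain ⟨z, hzK, hzo, hzc⟩ := exists_central_prime hK.1 hd
  have hzH : z ∈ H := hHc x hx hx1 (mem_centralizer_singleton_iff.2 (hzc x hxK).eq)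
  refine (hK.2 H hH.1 ?_).symm
  rw [← centralizer_eq hCN hK (ne_one_of_orderOf hp hzo) hzc]
  exact hHc z hzH (ne_one_of_orderOf hp hzo)

theorem isMaxNil_map {H : Subgroup G} (hH : IsMaxNil H) (e : G ≃* G) : IsMaxNil (H.map e.toMonoidHom) := by
  refine ⟨(Group.isNilpotent_congr (H.equivMapOfInjective _ e.injective)).mp hH.1, fun L hL hle => ?_⟩
  have hL' : Group.IsNilpotent (L.map e.symm.toMonoidHom) :=
    (Group.isNilpotent_congr (L.equivMapOfInjective _ e.symm.injective)).mp hL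
  have h := hH.2 _ hL' fun x hx => ⟨e x, hle ⟨x, hx, rfl⟩, e.symm_apply_apply x⟩
  rw [← h]
  ext x
  constructor
  · exact fun hx => ⟨e.symm x, ⟨x, hx, rfl⟩, e.apply_symm_apply x⟩
  · rintro ⟨_, ⟨y, hy, rfl⟩, rfl⟩
    simpa using hy

/-- Meeting conjugates coincide when the subgroup is closed under centralizers. -/
theorem ti_of_centralizer_le (hCN : Cfsg.IsCNGroup G) {H : Subgroup G} (hH : IsMaxNil H)
    (hHc : ∀ a ∈ H, a ≠ 1 → centralizer ({a} : Set G) ≤ H) (g : G)
    (hg : H.map (MulAut.conj g).toMonoidHom ≠ H) : H ⊓ H.map (MulAut.conj g).toMonoidHom = ⊥ := by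
  refine eq_bot_iff.2 fun x hx => mem_bot.2 (by_contra fun hx1 => hg ?_)
  exact eq_of_meet hCN hH (isMaxNil_map hH _) hHc hx.1 hx.2 hx1

/-- Non-coprime maximal nilpotent subgroups are conjugate. -/
theorem conj_of_common_prime (hCN : Cfsg.IsCNGroup G) {H K : Subgroup G} (hH : IsMaxNil H) (hK : IsMaxNil K)
    {p : ℕ} [hp : Fact p.Prime] (hpH : p ∣ Nat.card H) (hpK : p ∣ Nat.card K) :
    ∃ g : G, K = H.map (MulAut.conj g).toMonoidHom := by
  obtain ⟨P, hP⟩ := exists_sylow_le hCN hH hpH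
  obtain ⟨Q, hQ⟩ := exists_sylow_le hCN hK hpK
  obtain ⟨g, hg⟩ := MulAction.exists_smul_eq G P Q
  have hQ' : (Q : Subgroup G) = (P : Subgroup G).map (MulAut.conj g).toMonoidHom := by
    rw [← hg, Sylow.coe_subgroup_smul]; rfl
  refine ⟨g, (isMaxNil_map hH _).2 K hK.1 ?_⟩
  set H' := H.map (MulAut.conj g).toMonoidHom
  have hH' : IsMaxNil H' := isMaxNil_map hH _
  have hQH' : (Q : Subgroup G) ≤ H' := hQ' ▸ map_mono hP
  obtain ⟨z, hzH, hzo, hzc⟩ := exists_central_prime hK.1 hpK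
  have hpQ : ∀ u ∈ K, (∃ k, orderOf u ∣ p ^ k) → u ∈ (Q : Subgroup G) := fun u hu ⟨k, hk⟩ => by
    let Q' : Sylow p K := Q.subtype hQ
    have hpg : IsPGroup p (zpowers (⟨u, hu⟩ : K)) := by
      obtain ⟨j, -, hj⟩ := (Nat.dvd_prime_pow hp.out).1 hk
      exact IsPGroup.of_card (n := j) (by rw [Nat.card_zpowers, Subgroup.orderOf_mk, hj])
    obtain ⟨R, hR⟩ := hpg.exists_le_sylow
    haveI := Sylow.unique_of_normal Q' (sylow_normal hK.1 Q')
    have := (Subsingleton.elim R Q' ▸ hR (mem_zpowers _) : (⟨u, hu⟩ : K) ∈ (Q' : Subgroup K))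
    exact this
  have hzH' : z ∈ H' := hQH' (hpQ z hzH ⟨1, by rw [hzo, pow_one]⟩)
  intro h hh
  refine mem_of_decomp h hp.out (fun u hu hpu => ?_) fun v hv hpv => ?_
  · have hu' : u ∈ H' := zpowers_le.2 hh hu
    obtain ⟨R, hR⟩ := exists_sylow_le hCN hK hpK
    have hQ'' : u ∈ (Q : Subgroup G) := by
      let Q' : Sylow p H' := Q.subtype hQH'
      obtain ⟨k, hk⟩ := hpu
      have hpg : IsPGroup p (zpowers (⟨u, hu'⟩ : H')) := by
        obtain ⟨j, -, hj⟩ := (Nat.dvd_prime_pow hp.out).1 hk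
        exact IsPGroup.of_card (n := j) (by rw [Nat.card_zpowers, Subgroup.orderOf_mk, hj])
      obtain ⟨S, hS⟩ := hpg.exists_le_sylow
      haveI := Sylow.unique_of_normal Q' (sylow_normal hH'.1 Q')
      exact (Subsingleton.elim S Q' ▸ hS (mem_zpowers _) : (⟨u, hu'⟩ : H') ∈ (Q' : Subgroup H'))
    exact hQ hQ''
  · exact mem_of_commute hCN hK (ne_one_of_orderOf hp.out hzo) hzc
      (commute_of_nil hH'.1 (zpowers_le.2 hh hv) hzH' (by rw [hzo]; exact hpv))

end Cfsg.Agent.Lib.CNGroup
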