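import Cfsg.Agent.Lib.CNGroup.Basic
import Cfsg.Agent.Lib.Coprime.Action
import Cfsg.Agent.Lib.Coprime.Basic
import Cfsg.Agent.Lib.FPF.Key
import Cfsg.Agent.Lib.Hall.Solvable

/-!
Quotients of groups with nilpotent centralizers by solvable normal subgroups.
-/

set_option autoImplicit false
open Subgroup

namespace Cfsg.Agent.Lib.CNGroup

universe u

open scoped IsMulCommutative in
theorem quotient_abelian {G : Type u} [Group G] [Finite G] (hCN : Cfsg.IsCNGroup G) {p : ℕ} [hp : Fact p.Prime]
    (V : Subgroup G) [V.Normal] [IsMulCommutative V] (hV : IsPGroup p V) (hVne : V ≠ ⊥) :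
    Cfsg.IsCNGroup (G ⧸ V) := by
  intro c0 hc0
  obtain ⟨q, n, hq, hqo⟩ := exists_pow_prime hc0
  set xb := c0 ^ n
  have hle : centralizer ({c0} : Set (G ⧸ V)) ≤ centralizer ({xb} : Set (G ⧸ V)) := fun c hc =>
    mem_centralizer_singleton_iff.2 (Commute.pow_right (mem_centralizer_singleton_iff.1 hc) n).eq
  refine nil_mono ?_ hle
  set π := QuotientGroup.mk' V with hπ
  have hsurj : Function.Surjective π := QuotientGroup.mk'_surjective V
  have hxb1 : xb ≠ 1 := ne_one_of_orderOf hq hqo
  -- lifts commuting with a coprime element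
  have hlift : ∀ b c : G, (orderOf b).Coprime p → Commute (π b) (π c) → ∃ c', π c' = π c ∧ Commute b c' := by
    intro b c hb hbc
    obtain ⟨k, hk⟩ := IsPGroup.iff_card.1 hV
    have hA : zpowers b ≤ normalizer (V : Set G) := by rw [normalizer_eq_top]; exact le_top
    obtain ⟨c', hc', hcV⟩ := Coprime.exists_centralizer_mem_coset (A := zpowers b) (N := V) hA
      (by rw [Nat.card_zpowers, hk]; exact hb.pow_right k) (Or.inl inferInstance) (k := c) fun a ha => by
      obtain ⟨i, rfl⟩ := mem_zpowers_iff.1 ha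
      refine (QuotientGroup.eq_one_iff _).1 ?_
      show π (c⁻¹ * (b ^ i * c * (b ^ i)⁻¹)) = 1
      simp only [map_mul, map_inv, map_zpow]
      rw [(hbc.zpow_left i).eq]
      group
    refine ⟨c', (QuotientGroup.eq.2 hcV).symm, mem_centralizer_iff.1 hc' b (mem_zpowers b)⟩
  obtain ⟨x, hx⟩ := hsurj xb
  by_cases hqp : q = p
  · subst hqp
    have hxpp : IsPGroup q ↥(zpowers x) := by
      obtain ⟨k, hk⟩ := IsPGroup.iff_card.1 hV
      have h1 : x ^ q ∈ V := (QuotientGroup.eq_one_iff _).1 (by
        show π (x ^ q) = 1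
        rw [map_pow, hx, ← hqo, pow_orderOf_eq_one])
      have h2 : orderOf x ∣ q ^ (k + 1) := orderOf_dvd_of_pow_eq_one (by
        rw [pow_succ', pow_mul, ← orderOf_dvd_iff_pow_eq_one, ← hk]
        exact V.orderOf_dvd_natCard h1)
      obtain ⟨j, -, hj⟩ := (Nat.dvd_prime_pow hp.out).1 h2
      exact IsPGroup.of_card (n := j) (by rw [Nat.card_zpowers, hj])
    haveI : Nontrivial V := (nontrivial_iff_ne_bot V).2 hVne
    obtain ⟨w, hw1, hw⟩ := FPF.exists_fixed_ne_one hV ((zpowers x).map (MulAut.conjNormal (H := V)))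
      (hxpp.map _) inferInstance
    have hwG : (w : G) ≠ 1 := fun e => hw1 (Subtype.ext e)
    have hwx : Commute x (w : G) := by
      have h := congrArg Subtype.val (hw _ (mem_map_of_mem _ (mem_zpowers x)))
      rw [MulAut.conjNormal_apply, mul_inv_eq_iff_eq_mul] at h
      exact h
    set L := (centralizer ({xb} : Set (G ⧸ V))).comap π with hL
    have hfix : ∀ y ∈ L, (orderOf y).Coprime q → ∀ v ∈ V, Commute y v := by
      intro y hy hyo v hv
      have hcm : Commute (π y) (π x) := by rw [hx]; exact mem_centralizer_singleton_iff.1 hy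
      obtain ⟨x', hx', hyx'⟩ := hlift y x hyo hcm
      have hx'1 : x' ≠ 1 := fun e => hxb1 (by rw [← hx, ← hx', e, map_one])
      have hvV : x⁻¹ * x' ∈ V := QuotientGroup.eq.1 hx'.symm
      have hwx' : Commute x' (w : G) := by
        have h2 : Commute (x⁻¹ * x') (w : G) :=
          congrArg Subtype.val (mul_comm' (⟨_, hvV⟩ : V) w)
        have := hwx.mul_left h2
        rwa [mul_inv_cancel_left] at this
      obtain ⟨k, hk⟩ := IsPGroup.iff_card.1 hV
      have hyw : Commute y (w : G) := commute_of_nil (hCN x' hx'1)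
        (mem_centralizer_singleton_iff.2 hyx'.eq) (mem_centralizer_singleton_iff.2 hwx'.eq.symm)
        ((hyo.pow_right k).coprime_dvd_right (hk ▸ V.orderOf_dvd_natCard w.2))
      exact commute_of_nil (hCN (w : G) hwG) (mem_centralizer_singleton_iff.2 hyw.eq)
        (mem_centralizer_singleton_iff.2 (congrArg Subtype.val (mul_comm' (⟨v, hv⟩ : V) w)))
        ((hyo.pow_right k).coprime_dvd_right (hk ▸ V.orderOf_dvd_natCard hv))
    have hB : IsPGroup q ↥(L.map (MulAut.conjNormal (H := V))) := by
      rintro ⟨_, l, hl, rfl⟩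
      obtain ⟨a, hal, b, hbl, e, ⟨j, hj⟩, hb⟩ := exists_decomp l hq
      refine ⟨j, Subtype.ext ?_⟩
      have hb1 : (MulAut.conjNormal b : MulAut V) = 1 := MulEquiv.ext fun v => Subtype.ext (by
        rw [MulAut.conjNormal_apply, (hfix b (zpowers_le.2 hl hbl) hb v v.2).eq, mul_inv_cancel_right]
        rfl)
      show (MulAut.conjNormal l : MulAut V) ^ q ^ j = 1
      rw [e, map_mul, hb1, mul_one, ← map_pow, orderOf_dvd_iff_pow_eq_one.1 hj, map_one]
    obtain ⟨v, hv1, hv⟩ := FPF.exists_fixed_ne_one hV _ hB inferInstance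
    have hvG : (v : G) ≠ 1 := fun e => hv1 (Subtype.ext e)
    have hLv : L ≤ centralizer ({(v : G)} : Set G) := fun l hl => by
      have h := congrArg Subtype.val (hv _ (mem_map_of_mem _ hl))
      rw [MulAut.conjNormal_apply, mul_inv_eq_iff_eq_mul] at h
      exact mem_centralizer_singleton_iff.2 h
    have := nil_map (nil_mono (hCN _ hvG) hLv) π
    rwa [hL, map_comap_eq_self_of_surjective hsurj] at this
  · obtain ⟨a, hax, b, -, e, ⟨k, hk⟩, hb⟩ := exists_decomp x hp.out
    have ha1 : π a = 1 := by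
      have h1 : orderOf (π a) ∣ p ^ k := (orderOf_map_dvd π a).trans hk
      have h2 : orderOf (π a) ∣ q := by
        obtain ⟨i, rfl⟩ := mem_zpowers_iff.1 hax
        rw [map_zpow, hx, ← hqo]
        exact orderOf_dvd_of_mem_zpowers (zpow_mem (mem_zpowers _) i)
      exact orderOf_eq_one_iff.1 (Nat.eq_one_of_dvd_coprimes
        (((Nat.coprime_primes hp.out hq).2 (Ne.symm hqp)).pow_left k) h1 h2)
    have hbx : π b = xb := by
      rw [← hx, e, map_mul, ha1, one_mul]
    have hb1 : b ≠ 1 := fun h => hxb1 (by rw [← hbx, h, map_one])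
    refine nil_mono (nil_map (hCN b hb1) π) fun c hc => ?_
    obtain ⟨c, rfl⟩ := hsurj c
    obtain ⟨c', hc', hbc⟩ := hlift b c hb (by rw [hbx]; exact (mem_centralizer_singleton_iff.1 hc).symm)
    exact ⟨c', mem_centralizer_singleton_iff.2 hbc.eq.symm, hc'⟩

theorem quotient_solvable_aux (n : ℕ) : ∀ {G : Type u} [Group G] [Finite G], Nat.card G ≤ n →
    Cfsg.IsCNGroup G → ∀ (H : Subgroup G) [H.Normal], Group.IsSolvable H → Cfsg.IsCNGroup (G ⧸ H) := by
  induction n with
  | zero => intro G _ _ hn; exact absurd hn (by have := Nat.card_pos (α := G); omega)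
  | succ n ih =>
    intro G _ _ hn hCN H _ hH
    rcases eq_or_ne H ⊥ with rfl | hne
    · exact cn_of_injective hCN QuotientGroup.quotientBot.toMonoidHom QuotientGroup.quotientBot.injective
    obtain ⟨V, hVn, hV, hVH, hmin⟩ := Hall.exists_minimal_normal_le (N := H) hne
    haveI : Group.IsSolvable V := Coprime.isSolvable_of_le hVH hH
    obtain ⟨hVc, p, hp, hpow⟩ := Hall.minimal_normal_solvable V hV fun M hM hMV => hmin M hM hMV
    haveI : Fact p.Prime := ⟨hp⟩
    haveI := hVc
    have hq := quotient_abelian hCN V (Hall.isPGroup_of_pow_eq_one hpow) hV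
    have hlt : Nat.card (G ⧸ V) ≤ n := by
      have := Coprime.card_quotient_lt hV
      omega
    haveI hn' : (H.map (QuotientGroup.mk' V)).Normal :=
      Subgroup.Normal.map inferInstance _ (QuotientGroup.mk'_surjective V)
    haveI := hH
    have := ih hlt hq (H.map (QuotientGroup.mk' V))
      (solvable_of_surjective ((QuotientGroup.mk' V).subgroupMap_surjective H))
    let e := QuotientGroup.quotientQuotientEquivQuotient V H hVH
    exact cn_of_injective this e.symm.toMonoidHom e.symm.injective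

theorem quotient_solvable {G : Type u} [Group G] [Finite G] (hCN : Cfsg.IsCNGroup G) (H : Subgroup G)
    [H.Normal] (hH : Group.IsSolvable H) : Cfsg.IsCNGroup (G ⧸ H) :=
  quotient_solvable_aux (Nat.card G) le_rfl hCN H hH

end Cfsg.Agent.Lib.CNGroup
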