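import Cfsg.Prelude.Def_OddOrderLocal
import Cfsg.Agent.Lib.CNGroup.Quotient
import Cfsg.Agent.Lib.FPF.Hughes
import Cfsg.Agent.Lib.PLength.Basic
import Cfsg.Agent.S0039
import Cfsg.Agent.S0040
import Cfsg.Agent.S0069
import Cfsg.Agent.Lib.OddLocal.CyclicSub

/-!
The structure of solvable groups with nilpotent centralizers.
-/

set_option autoImplicit false
open Subgroup

namespace Cfsg.Agent.Lib.CNGroup

universe u

variable {G : Type u} [Group G]

/-- A proper nontrivial nilpotent normal subgroup containing the centralizer of each of its nontrivial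
elements. -/
structure IsKernel (H : Subgroup G) : Prop where
  normal : H.Normal
  nil : Group.IsNilpotent H
  ne_bot : H ≠ ⊥
  ne_top : H ≠ ⊤
  cent : ∀ x ∈ H, x ≠ 1 → centralizer ({x} : Set G) ≤ H

variable [Finite G]

theorem exists_pElem (H : Subgroup G) {p : ℕ} [hp : Fact p.Prime] (hd : p ∣ Nat.card H) :
    ∃ z ∈ H, orderOf z = p := by
  obtain ⟨⟨z, hz⟩, ho⟩ := exists_prime_orderOf_dvd_card' (G := H) p hd
  exact ⟨z, hz, by rwa [Subgroup.orderOf_mk] at ho⟩

theorem exists_prime_dvd_card {H : Subgroup G} (hH : H ≠ ⊥) : ∃ p : ℕ, p.Prime ∧ p ∣ Nat.card H :=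
  Nat.exists_prime_and_dvd fun h => hH (H.eq_bot_of_card_eq h)

theorem IsKernel.isMaxNil {H : Subgroup G} (k : IsKernel H) : IsMaxNil H := by
  refine ⟨k.nil, fun L hL hHL => le_antisymm ?_ hHL⟩
  haveI := k.normal
  haveI := hL
  have hne : H.subgroupOf L ≠ ⊥ := fun hb => k.ne_bot (by
    rw [subgroupOf_eq_bot, disjoint_iff, inf_eq_left.2 hHL] at hb
    exact hb)
  obtain ⟨⟨z, hzm⟩, hz1⟩ := (bot_or_exists_ne_one _).resolve_left
    (S0065.inf_center_ne_bot (G := L) (N := H.subgroupOf L) inferInstance hne)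
  obtain ⟨hzH, hzc⟩ := hz1
  intro l hl
  refine k.cent (z : G) hzH.1 (fun e => hzc (Subtype.ext e)) (mem_centralizer_singleton_iff.2 ?_)
  exact congrArg Subtype.val (mem_center_iff.1 hzH.2 ⟨l, hl⟩)

theorem IsKernel.not_nilpotent {H : Subgroup G} (k : IsKernel H) : ¬ Group.IsNilpotent G := fun h =>
  k.ne_top (k.isMaxNil.2 ⊤ (Group.isNilpotent_top.2 h) le_top).symm

theorem IsKernel.coprime (hCN : Cfsg.IsCNGroup G) {H : Subgroup G} (k : IsKernel H) :
    (Nat.card H).Coprime H.index := coprime_index hCN k.isMaxNil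

theorem IsKernel.fittingHall_eq (hCN : Cfsg.IsCNGroup G) {H : Subgroup G} (k : IsKernel H) :
    Cfsg.fittingHall G = H := by
  refine le_antisymm (sSup_le ?_) (le_sSup ⟨k.normal, k.nil, k.coprime hCN⟩)
  rintro N ⟨hn, hN, -⟩
  haveI := hn
  haveI := k.normal
  have h1 : H ⊔ N ≤ fittingSubgroup G :=
    sup_le (Hall.le_fittingSubgroup k.nil) (Hall.le_fittingSubgroup hN)
  have h2 := k.isMaxNil.2 _ (nil_mono Hall.fittingSubgroup_isNilpotent h1) le_sup_left
  exact h2 ▸ le_sup_right

theorem kernel_of_normal_sylow (hCN : Cfsg.IsCNGroup G) (hnn : ¬ Group.IsNilpotent G) {p : ℕ}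
    [hp : Fact p.Prime] (P : Sylow p G) (hP1 : (P : Subgroup G) ≠ ⊥) (hPn : (P : Subgroup G).Normal) :
    ∃ H : Subgroup G, IsKernel H ∧ (P : Subgroup G) ≤ H := by
  obtain ⟨H, hH, hPH⟩ := exists_maxNil P.2.isNilpotent
  have hdP : p ∣ Nat.card (P : Subgroup G) := by
    haveI := (nontrivial_iff_ne_bot _).2 hP1
    obtain ⟨n, hn0, hn⟩ := (IsPGroup.nontrivial_iff_card P.2).1 inferInstance
    exact hn ▸ dvd_pow_self p hn0.ne'
  obtain ⟨z, hzH, hzo, hzc⟩ := exists_central_prime hH.1 (hdP.trans (card_dvd_of_le hPH))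
  have hz1 := ne_one_of_orderOf hp.out hzo
  have hpP : ∀ a : G, (∃ k, orderOf a ∣ p ^ k) → a ∈ (P : Subgroup G) := fun a ⟨k, hk⟩ => by
    have hpg : IsPGroup p (zpowers a) := by
      obtain ⟨j, -, hj⟩ := (Nat.dvd_prime_pow hp.out).1 hk
      exact IsPGroup.of_card (n := j) (by rw [Nat.card_zpowers, hj])
    obtain ⟨Q, hQ⟩ := hpg.exists_le_sylow
    haveI := Sylow.unique_of_normal P hPn
    rw [Subsingleton.elim P Q]
    exact hQ (mem_zpowers a)
  have hzP : z ∈ (P : Subgroup G) := hpP z ⟨1, by rw [hzo, pow_one]⟩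
  have hn : H.Normal := by
    refine ⟨fun x hx g => ?_⟩
    have hH' : IsMaxNil (H.map (MulAut.conj g).toMonoidHom) := isMaxNil_map hH _
    have hPH' : (P : Subgroup G) ≤ H.map (MulAut.conj g).toMonoidHom := fun a ha =>
      ⟨g⁻¹ * a * g, hPH (by simpa using hPn.conj_mem a ha g⁻¹), by simp [mul_assoc]⟩
    refine mem_of_decomp (g * x * g⁻¹) hp.out (fun u _ hpu => hPH (hpP u hpu)) fun v hv hpv =>
      mem_of_commute hCN hH hz1 hzc (commute_of_nil hH'.1 (zpowers_le.2 (mem_map.2 ⟨x, hx, rfl⟩) hv)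
        (hPH' hzP) (by rw [hzo]; exact hpv))
  refine ⟨H, ⟨hn, hH.1, fun hb => hP1 (eq_bot_iff.2 (hb ▸ hPH)), fun ht => hnn ?_, fun x hx hx1 c hc => ?_⟩, hPH⟩
  · exact Group.isNilpotent_top.1 (ht ▸ hH.1)
  · exact mem_of_decomp c hp.out (fun u _ hpu => hPH (hpP u hpu)) fun v hv hpv =>
      mem_of_commute hCN hH hz1 hzc (commute_of_nil (hCN x hx1) (zpowers_le.2 hc hv)
        (mem_centralizer_singleton_iff.2 (hzc x hx).eq) (by rw [hzo]; exact hpv))

omit [Finite G] in
theorem cyclic_or_quaternion {E : Type u} [Group E] [Finite E] [Group.IsNilpotent E]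
    (hs : ∀ (p : ℕ) [Fact p.Prime] (P : Sylow p E),
      IsCyclic P ∨ ∃ n : ℕ, Nonempty (P ≃* QuaternionGroup (2 ^ n))) :
    IsCyclic E ∨ ∃ C Q : Subgroup E, C ⊔ Q = ⊤ ∧ (∀ a ∈ C, ∀ b ∈ Q, a * b = b * a) ∧ IsCyclic C ∧
      Odd (Nat.card C) ∧ ∃ n : ℕ, Nonempty (↥Q ≃* QuaternionGroup (2 ^ n)) := by
  have hodd : ∀ (p : ℕ) [Fact p.Prime], p ≠ 2 → ∀ P : Sylow p E, IsCyclic P := by
    intro p hp h2 P
    refine (hs p P).resolve_right ?_
    rintro ⟨n, ⟨e⟩⟩
    obtain ⟨k, hk⟩ := IsPGroup.iff_card.1 P.2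
    haveI : NeZero (2 ^ n) := ⟨by positivity⟩
    have h4 : 4 * 2 ^ n = p ^ k := by
      rw [← hk, Nat.card_congr e.toEquiv, Nat.card_eq_fintype_card, QuaternionGroup.card]
    have h := Nat.prime_two.dvd_of_dvd_pow
      (show 2 ∣ p ^ k from ⟨2 * 2 ^ n, by rw [← h4]; ring⟩)
    exact h2 ((Nat.prime_dvd_prime_iff_eq Nat.prime_two hp.out).1 h).symm
  haveI : Fact (Nat.Prime 2) := ⟨Nat.prime_two⟩
  let T : Sylow 2 E := Classical.arbitrary _
  rcases hs 2 T with hT | hT
  · left
    haveI : IsZGroup E := ⟨fun p hp P => by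
      haveI : Fact p.Prime := ⟨hp⟩
      rcases eq_or_ne p 2 with rfl | h
      · obtain ⟨g, hg⟩ := MulAction.exists_smul_eq E T P
        exact isCyclic_of_surjective _ (Sylow.equiv T P).surjective
      · exact hodd p h P⟩
    infer_instance
  · right
    have hTn : (T : Subgroup E).Normal := sylow_normal_top T
    obtain ⟨C, hC⟩ := exists_right_complement'_of_coprime T.card_coprime_index
    have hCodd : Odd (Nat.card C) := by
      rw [← hC.symm.index_eq_card, Nat.odd_iff, ← Nat.two_dvd_ne_zero]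
      exact T.not_dvd_index
    refine ⟨C, T, by rw [sup_comm]; exact hC.sup_eq_top, fun a ha b hb => ?_, ?_, hCodd, hT⟩
    · refine (Lib.Transfer.commute_of_coprime_orderOf ?_).eq
      obtain ⟨k, hk⟩ := IsPGroup.iff_card.1 T.2
      exact ((Nat.Coprime.pow_right k (Nat.coprime_two_right.2 hCodd)).coprime_dvd_left
        (C.orderOf_dvd_natCard ha)).coprime_dvd_right (hk ▸ (T : Subgroup E).orderOf_dvd_natCard hb)
    · haveI : IsZGroup C := ⟨fun p hp P => by
        haveI : Fact p.Prime := ⟨hp⟩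
        obtain ⟨R, hR⟩ := (P.2.map C.subtype).exists_le_sylow
        rcases eq_or_ne p 2 with rfl | h
        · have : (P : Subgroup C) = ⊥ := by
            refine Subgroup.eq_bot_of_card_eq _ ?_
            obtain ⟨k, hk⟩ := IsPGroup.iff_card.1 P.2
            exact Nat.eq_one_of_dvd_coprimes ((Nat.coprime_two_left.2 hCodd).pow_left k)
              (hk ▸ dvd_rfl) (card_subgroup_dvd_card _)
          rw [this]; infer_instance
        · haveI := hodd p h R
          haveI := isCyclic_of_le hR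
          exact isCyclic_of_surjective _
            ((P : Subgroup C).equivMapOfInjective _ C.subtype_injective).symm.surjective⟩
      infer_instance
where
  sylow_normal_top {E : Type u} [Group E] [Finite E] [Group.IsNilpotent E] {p : ℕ} [Fact p.Prime]
      (T : Sylow p E) : (T : Subgroup E).Normal :=
    Sylow.normal_of_normalizerCondition Group.normalizerCondition_of_isNilpotent T

/-- Structure of a group with a kernel. -/
theorem IsKernel.exists_complement (hCN : Cfsg.IsCNGroup G) {H : Subgroup G} (k : IsKernel H) :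
    ∃ E : Subgroup G, IsComplement' H E ∧ E ≠ ⊥ ∧ Cfsg.IsFrobeniusComplement E ∧ Group.IsNilpotent E ∧
      (∀ e ∈ E, e ≠ 1 → H ⊓ centralizer ({e} : Set G) = ⊥) ∧
      (IsCyclic E ∨ ∃ C Q : Subgroup G, C ⊔ Q = E ∧ (∀ a ∈ C, ∀ b ∈ Q, a * b = b * a) ∧ IsCyclic C ∧
        Odd (Nat.card C) ∧ ∃ n : ℕ, Nonempty (↥Q ≃* QuaternionGroup (2 ^ n))) := by
  haveI := k.normal
  obtain ⟨E, hE⟩ := exists_right_complement'_of_coprime (k.coprime hCN)
  have hE1 : E ≠ ⊥ := fun hb => k.ne_top (by
    have := hE.sup_eq_top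
    rwa [hb, sup_bot_eq] at this)
  have hfpf : ∀ e ∈ E, e ≠ 1 → H ⊓ centralizer ({e} : Set G) = ⊥ := fun e he he1 => by
    refine eq_bot_iff.2 fun x hx => mem_bot.2 (by_contra fun hx1 => ?_)
    have heH : e ∈ H := k.cent x hx.1 hx1
      (mem_centralizer_singleton_iff.2 (mem_centralizer_singleton_iff.1 hx.2).symm)
    exact he1 (mem_bot.1 (hE.disjoint.le_bot ⟨heH, he⟩))
  obtain ⟨⟨z, hzc⟩, hz1⟩ := (bot_or_exists_ne_one _).resolve_left (S0069.result H E hE k.ne_bot hE1 hfpf)
  obtain ⟨hzE, hz1⟩ := hz1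
  have hnil : Group.IsNilpotent E := by
    refine nil_mono (hCN ((⟨z, hzc⟩ : E) : G) fun e => hz1 (Subtype.ext e)) fun e he => ?_
    exact mem_centralizer_singleton_iff.2 (congrArg Subtype.val (mem_center_iff.1 hzE ⟨e, he⟩))
  haveI := hnil
  refine ⟨E, hE, hE1, (S0039.result H E hE k.ne_bot hE1).2 hfpf, hnil, hfpf, ?_⟩
  rcases cyclic_or_quaternion (E := E) (fun p _ P => S0040.result H E hE k.ne_bot hfpf p P) with
    h | ⟨C, Q, hCQ, hcomm, hC, hCo, n, ⟨eQ⟩⟩
  · exact Or.inl h
  · refine Or.inr ⟨C.map E.subtype, Q.map E.subtype, ?_, ?_, ?_, ?_, n,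
      ⟨(Q.equivMapOfInjective _ E.subtype_injective).symm.trans eQ⟩⟩
    · rw [← Subgroup.map_sup, hCQ, ← MonoidHom.range_eq_map, range_subtype]
    · rintro _ ⟨a, ha, rfl⟩ _ ⟨b, hb, rfl⟩
      exact congrArg Subtype.val (hcomm a ha b hb)
    · exact isCyclic_of_surjective _ (C.equivMapOfInjective _ E.subtype_injective).surjective
    · rwa [card_map_of_injective E.subtype_injective]

theorem IsKernel.quotient_nilpotent (hCN : Cfsg.IsCNGroup G) {H : Subgroup G} [H.Normal] (k : IsKernel H) :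
    Group.IsNilpotent (G ⧸ H) := by
  obtain ⟨E, hE, -, -, hn, -⟩ := k.exists_complement hCN
  exact (Group.isNilpotent_congr hE.symm.QuotientMulEquiv).mpr hn

open scoped IsMulCommutative in
/-- Solvable case: nilpotent, a kernel, or a three-step group. -/
theorem trichotomy [Group.IsSolvable G] (hCN : Cfsg.IsCNGroup G) :
    Group.IsNilpotent G ∨ (∃ H : Subgroup G, IsKernel H) ∨
      ∃ p : ℕ, p.Prime ∧ Cfsg.IsThreeStepGroup p G := by
  classical
  by_cases hnn : Group.IsNilpotent G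
  · exact Or.inl hnn
  refine Or.inr ?_
  haveI : Nontrivial G := by
    by_contra h
    rw [not_nontrivial_iff_subsingleton] at h
    exact hnn inferInstance
  set F := fittingSubgroup G with hF
  haveI hFn : F.Normal := sSup_normal _ fun _ h => h.1
  have hFnil : Group.IsNilpotent F := Hall.fittingSubgroup_isNilpotent
  have hFle : ∀ N : Subgroup G, N.Normal → Group.IsNilpotent N → N ≤ F := fun N hn hN => by
    haveI := hn; exact Hall.le_fittingSubgroup hN
  have hF1 : F ≠ ⊥ := by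
    obtain ⟨N, p, hn, hN, hp, hNp, -, -⟩ := Hall.exists_normal_pgroup (G := G)
    haveI : Fact p.Prime := ⟨hp⟩
    exact fun hb => hN (eq_bot_iff.2 (hb ▸ hFle N hn hNp.isNilpotent))
  obtain ⟨p, hp, hpF⟩ := exists_prime_dvd_card hF1
  haveI : Fact p.Prime := ⟨hp⟩
  by_cases h2 : ∃ q, q.Prime ∧ q ≠ p ∧ q ∣ Nat.card F
  · obtain ⟨q, hq, hqp, hqF⟩ := h2
    obtain ⟨H, hH, hFH⟩ := exists_maxNil hFnil
    have hcent : ∀ x ∈ H, x ≠ 1 → centralizer ({x} : Set G) ≤ H := fun x hx hx1 =>
      centralizer_le_of_two hCN hH hq hp hqp (hqF.trans (card_dvd_of_le hFH))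
        (hpF.trans (card_dvd_of_le hFH)) hx hx1
    obtain ⟨f, hfF, hfo⟩ := exists_pElem F hpF
    have hHn : H.Normal := ⟨fun x hx g => by
      have hfg : f ∈ H.map (MulAut.conj g).toMonoidHom :=
        ⟨g⁻¹ * f * g, hFH (by simpa using hFn.conj_mem f hfF g⁻¹), by simp [mul_assoc]⟩
      have := eq_of_meet hCN hH (isMaxNil_map hH _) hcent (hFH hfF) hfg (ne_one_of_orderOf hp hfo)
      exact this ▸ ⟨x, hx, rfl⟩⟩
    refine Or.inl ⟨H, hHn, hH.1, fun hb => hF1 (eq_bot_iff.2 (hb ▸ hFH)), fun ht => hnn ?_, hcent⟩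
    exact Group.isNilpotent_top.1 (ht ▸ hH.1)
  push Not at h2
  have hFp : IsPGroup p F := IsPGroup.of_card (n := (Nat.card F).primeFactorsList.length)
    (Nat.eq_prime_pow_of_unique_prime_dvd Nat.card_pos.ne' fun {d} hd hdv => by
      by_contra hne
      exact h2 d hd hne hdv)
  set P := Cfsg.pCore p G with hPdef
  have hFP : F = P := le_antisymm (Hall.le_pCore hFp) (Hall.pCore_le_fittingSubgroup p)
  have hCP : centralizer (P : Set G) ≤ P := by
    have := Hall.centralizer_fittingSubgroup_le (G := G)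
    rwa [← hF, hFP] at this
  haveI hPn : P.Normal := Hall.pCore_normal p
  have hPp : IsPGroup p P := Hall.isPGroup_pCore p
  have hP1 : P ≠ ⊥ := hFP ▸ hF1
  obtain ⟨S⟩ : Nonempty (Sylow p G) := inferInstance
  by_cases hsyl : (S : Subgroup G) = P
  · obtain ⟨H, hH, -⟩ := kernel_of_normal_sylow hCN hnn S (hsyl ▸ hP1) (hsyl ▸ hPn)
    exact Or.inl ⟨H, hH⟩
  refine Or.inr ⟨p, hp, hP1, ?_⟩
  -- elements of order prime to p centralize no nontrivial element of P
  have hpd : p ∣ Nat.card P := hFP ▸ hpF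
  obtain ⟨z, hzP, hzo, hzc⟩ := exists_central_prime hPp.isNilpotent hpd
  have hz1 := ne_one_of_orderOf hp hzo
  obtain ⟨nP, hnP⟩ := IsPGroup.iff_card.1 hPp
  have hfix : ∀ g : G, (orderOf g).Coprime p → ∀ v ∈ P, v ≠ 1 → Commute g v → g = 1 := by
    intro g hg v hv hv1 hgv
    have hgz : Commute g z := commute_of_nil (hCN v hv1) (mem_centralizer_singleton_iff.2 hgv.eq)
      (mem_centralizer_singleton_iff.2 (hzc v hv).eq) (by rw [hzo]; exact hg)
    have hgP : g ∈ P := hCP (mem_centralizer_iff.2 fun x hx => (commute_of_nil (hCN z hz1)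
      (mem_centralizer_singleton_iff.2 hgz.eq) (mem_centralizer_singleton_iff.2 (hzc x hx).eq.symm)
      ((hg.pow_right nP).coprime_dvd_right (hnP ▸ P.orderOf_dvd_natCard hx))).eq.symm)
    rw [← orderOf_eq_one_iff]
    exact Nat.eq_one_of_dvd_coprimes (hg.pow_right nP) dvd_rfl (hnP ▸ P.orderOf_dvd_natCard hgP)
  set π := QuotientGroup.mk' P with hπ
  have hsurj : Function.Surjective π := QuotientGroup.mk'_surjective P
  haveI : Group.IsSolvable P := inferInstance
  have hQCN : Cfsg.IsCNGroup (G ⧸ P) := quotient_solvable hCN P inferInstance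
  set A' := fittingSubgroup (G ⧸ P) with hA'
  haveI hA'n : A'.Normal := sSup_normal _ fun _ h => h.1
  have hA'nil : Group.IsNilpotent A' := Hall.fittingSubgroup_isNilpotent
  have hOp : Cfsg.pCore p (G ⧸ P) = ⊥ := PLength.pCore_quotient_pCore_eq_bot
  have hA'p : ¬ p ∣ Nat.card A' := fun hd => by
    let T : Sylow p A' := Classical.arbitrary _
    haveI hTn := sylow_normal hA'nil T
    haveI : (T : Subgroup A').Characteristic := T.characteristic_of_normal hTn
    haveI : ((T : Subgroup A').map A'.subtype).Normal := ConjAct.normal_of_characteristic_of_normal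
    have h1 : (T : Subgroup A').map A'.subtype ≤ ⊥ := hOp ▸ Hall.le_pCore (T.2.map _)
    rw [le_bot_iff, map_eq_bot_iff_of_injective _ A'.subtype_injective] at h1
    have := T.dvd_card_of_dvd_card hd
    rw [h1, card_bot, Nat.dvd_one] at this
    exact hp.ne_one this
  have hA'ne : A' ≠ ⊤ := fun ht => by
    have hd : p ∣ (P.index) := by
      by_contra hnd
      refine hsyl (Subgroup.eq_of_le_of_card_ge (Hall.pCore_le_sylow S) ?_).symm
      obtain ⟨nS, hnS⟩ := IsPGroup.iff_card.1 S.2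
      rw [hnS, hnP]
      refine Nat.pow_le_pow_right hp.pos ((Nat.pow_dvd_pow_iff_le_right hp.one_lt).1 ?_)
      refine Nat.Coprime.dvd_of_dvd_mul_right (Nat.Coprime.pow_left _ (hp.coprime_iff_not_dvd.2 hnd)) ?_
      rw [← hnP, card_mul_index, ← hnS]
      exact card_subgroup_dvd_card _
    rw [index_eq_card, ← card_top (G := G ⧸ P), ← ht] at hd
    exact hA'p hd
  set L := A'.comap π with hL
  have hPL : P ≤ L := fun x hx => by
    show π x ∈ A'
    rw [show π x = 1 from (QuotientGroup.eq_one_iff x).2 hx]; exact one_mem _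
  have hmapL : L.map π = A' := map_comap_eq_self_of_surjective hsurj A'
  obtain ⟨A0, hA0⟩ : ∃ A0 : Subgroup L, IsComplement' (P.subgroupOf L) A0 := by
    refine exists_right_complement'_of_coprime ?_
    rw [Nat.card_congr (subgroupOfEquivOfLe hPL).toEquiv, hnP]
    refine Nat.Coprime.pow_left _ (hp.coprime_iff_not_dvd.2 ?_)
    have : (P.subgroupOf L).index = Nat.card A' := by
      rw [← relIndex, ← hmapL, ← relIndex_ker (K := L) π]
      simp [hπ]
    rwa [this]
  set A := A0.map L.subtype with hA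
  have hcardA : Nat.card A = Nat.card A' := by
    rw [hA, card_map_of_injective L.subtype_injective,
      ← hA0.symm.index_eq_card, ← relIndex, ← hmapL, ← relIndex_ker (K := L) π]
    simp [hπ]
  have hAcop : (Nat.card A).Coprime p := by
    rw [hcardA]; exact (hp.coprime_iff_not_dvd.2 hA'p).symm
  have hAP : P ⊔ A = L := by
    have := congrArg (Subgroup.map L.subtype) hA0.sup_eq_top
    rwa [Subgroup.map_sup, ← MonoidHom.range_eq_map, range_subtype, subgroupOf_map_subtype,
      inf_eq_left.2 hPL, ← hA] at this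
  have hAimg : A.map π = A' := by
    rw [← hmapL, ← hAP, Subgroup.map_sup, (map_eq_bot_iff P).2 (by rw [hπ, QuotientGroup.ker_mk']),
      bot_sup_eq]
  have hAfpf : ∀ a ∈ A, a ≠ 1 → P ⊓ centralizer ({a} : Set G) = ⊥ := fun a ha ha1 => by
    refine eq_bot_iff.2 fun v hv => mem_bot.2 (by_contra fun hv1 => ha1 ?_)
    exact hfix a (hAcop.coprime_dvd_left (A.orderOf_dvd_natCard ha)) v hv.1 hv1
      (mem_centralizer_singleton_iff.1 hv.2).symm
  have hA'1 : A' ≠ ⊥ := fun hb => by
    haveI : Nontrivial (G ⧸ P) := by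
      by_contra h
      rw [not_nontrivial_iff_subsingleton] at h
      exact hA'ne (Subsingleton.elim _ _)
    obtain ⟨N, q, hn, hN, hq, hNq, -, -⟩ := Hall.exists_normal_pgroup (G := G ⧸ P)
    haveI : Fact q.Prime := ⟨hq⟩
    exact hN (eq_bot_iff.2 (hb ▸ Hall.le_fittingSubgroup hNq.isNilpotent))
  have hA1 : A ≠ ⊥ := fun hb => hA'1 (by rw [← hAimg, hb, Subgroup.map_bot])
  -- Sylow subgroups of A
  have hAsyl : ∀ (r : ℕ) [Fact r.Prime] (R : Sylow r A0),
      IsCyclic R ∨ ∃ n : ℕ, Nonempty (R ≃* QuaternionGroup (2 ^ n)) := by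
    intro r _ R
    refine S0040.result (P.subgroupOf L) A0 hA0 ?_ ?_ r R
    · rw [Ne, subgroupOf_eq_bot, disjoint_iff, inf_eq_left.2 hPL]; exact hP1
    · intro h hh hh1
      refine eq_bot_iff.2 fun v hv => mem_bot.2 (Subtype.ext ?_)
      have hh' : (h : G) ∈ A := ⟨h, hh, rfl⟩
      exact mem_bot.1 ((hAfpf h hh' fun e => hh1 (Subtype.ext e)).le ⟨hv.1,
        mem_centralizer_singleton_iff.2 (congrArg Subtype.val (mem_centralizer_singleton_iff.1 hv.2))⟩)
  -- A has odd order
  let V : Subgroup G := (center P).map P.subtype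
  haveI : IsMulCommutative V := inferInstance
  haveI hVn : V.Normal := ConjAct.normal_of_characteristic_of_normal
  have hVP : V ≤ P := map_subtype_le _
  have hzV : z ∈ V := ⟨⟨z, hzP⟩, mem_center_iff.2 fun x => Subtype.ext (hzc x x.2).eq.symm, rfl⟩
  have hPker : ∀ x ∈ P, (MulAut.conjNormal x : MulAut V) = 1 := fun x hx => MulEquiv.ext fun v => Subtype.ext (by
    rw [MulAut.conjNormal_apply]
    obtain ⟨w, hw, hwv⟩ := v.2
    have h := congrArg Subtype.val (mem_center_iff.1 hw ⟨x, hx⟩)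
    rw [← hwv]
    show x * (w : G) * x⁻¹ = _
    rw [show x * (w : G) = (w : G) * x from h, mul_inv_cancel_right]
    exact hwv)
  have hAodd : Odd (Nat.card A) := by
    rw [← Nat.not_even_iff_odd, even_iff_two_dvd]
    intro h2A
    haveI : Fact (Nat.Prime 2) := ⟨Nat.prime_two⟩
    obtain ⟨t, htA, hto⟩ := exists_pElem A h2A
    -- an involution of A inverts z
    have hinv : ∀ s ∈ A, orderOf s = 2 → s * z * s⁻¹ = z⁻¹ := by
      intro s hs hso
      have hsV : s * z * s⁻¹ ∈ V := hVn.conj_mem z hzV s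
      have hc : Commute z (s * z * s⁻¹) := hzc _ (hVP hsV)
      have hss : s * s = 1 := by rw [← pow_two, ← hso, pow_orderOf_eq_one]
      have hsi : s⁻¹ = s := inv_eq_of_mul_eq_one_right hss
      by_contra hne
      have hv1 : z * (s * z * s⁻¹) ≠ 1 := fun e => hne (eq_inv_of_mul_eq_one_right e)
      have hcs : Commute s (z * (s * z * s⁻¹)) := by
        show s * _ = _ * s
        have : s * (z * (s * z * s⁻¹)) * s⁻¹ = z * (s * z * s⁻¹) := by
          calc s * (z * (s * z * s⁻¹)) * s⁻¹ = (s * z * s⁻¹) * (s * (s * z * s⁻¹) * s⁻¹) := by group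
            _ = (s * z * s⁻¹) * z := by
              rw [show s * (s * z * s⁻¹) * s⁻¹ = (s * s) * z * (s * s)⁻¹ by group, hss]; group
            _ = _ := hc.eq.symm
        exact mul_inv_eq_iff_eq_mul.1 this
      exact ne_one_of_orderOf Nat.prime_two hso (hfix s (hAcop.coprime_dvd_left (A.orderOf_dvd_natCard hs))
        _ (mul_mem hzP (hVP hsV)) hv1 hcs)
    have huniq : ∀ s ∈ A, orderOf s = 2 → s = t := by
      intro s hs hso
      have h1 : Commute (s⁻¹ * t) z := by
        show s⁻¹ * t * z = z * (s⁻¹ * t)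
        have e1 := hinv t htA hto
        have e2 := hinv s hs hso
        have : s⁻¹ * t * z * (s⁻¹ * t)⁻¹ = z := by
          rw [show s⁻¹ * t * z * (s⁻¹ * t)⁻¹ = s⁻¹ * (t * z * t⁻¹) * s by group, e1, ← e2]; group
        exact mul_inv_eq_iff_eq_mul.1 this
      have := hfix _ (hAcop.coprime_dvd_left (A.orderOf_dvd_natCard (mul_mem (inv_mem hs) htA))) z hzP hz1 h1
      exact inv_mul_eq_one.1 this
    have ht1 : π t ≠ 1 := fun e => by
      have : t ∈ P := (QuotientGroup.eq_one_iff t).1 e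
      have := Nat.eq_one_of_dvd_coprimes ((hAcop.coprime_dvd_left (A.orderOf_dvd_natCard htA)).pow_right nP)
        dvd_rfl (hnP ▸ P.orderOf_dvd_natCard this)
      rw [hto] at this
      omega
    have hcen : centralizer ({π t} : Set (G ⧸ P)) = ⊤ := by
      refine eq_top_iff.2 fun g _ => mem_centralizer_singleton_iff.2 ?_
      obtain ⟨g, rfl⟩ := hsurj g
      have hm : π g * π t * (π g)⁻¹ ∈ A.map π := by
        rw [hAimg]; exact hA'n.conj_mem _ (hAimg ▸ mem_map_of_mem π htA) _
      obtain ⟨s, hs, hst⟩ := hm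
      have hinj : ∀ a ∈ A, π a = 1 → a = 1 := fun a ha e => by
        rw [← orderOf_eq_one_iff]
        exact Nat.eq_one_of_dvd_coprimes ((hAcop.coprime_dvd_left (A.orderOf_dvd_natCard ha)).pow_right nP)
          dvd_rfl (hnP ▸ P.orderOf_dvd_natCard ((QuotientGroup.eq_one_iff a).1 e))
      have hs2 : s ^ 2 = 1 := hinj _ (pow_mem hs 2) (by
        rw [map_pow, hst, conj_pow, ← map_pow, ← hto, pow_orderOf_eq_one, map_one, mul_one, mul_inv_cancel])
      have hs1 : s ≠ 1 := fun e => by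
        rw [e, map_one, eq_comm, conj_eq_one_iff] at hst
        exact ht1 hst
      rw [huniq s hs (orderOf_eq_prime hs2 hs1), eq_mul_inv_iff_mul_eq] at hst
      exact hst.symm
    have hQnil : Group.IsNilpotent (G ⧸ P) := Group.isNilpotent_top.1 (hcen ▸ hQCN _ ht1)
    exact hA'ne (by rw [hA']; exact Hall.fittingSubgroup_eq_top)
  -- A is cyclic
  haveI hA0nil : Group.IsNilpotent A0 := by
    let f : A0 →* A' := ((π.comp L.subtype).comp A0.subtype).codRestrict A' fun a => (a : L).2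
    have hf : Function.Injective f := (injective_iff_map_eq_one f).2 fun a ha => by
      have h1 : ((a : L) : G) ∈ P := (QuotientGroup.eq_one_iff _).1 (congrArg Subtype.val ha)
      exact Subtype.ext (mem_bot.1 (hA0.disjoint.le_bot ⟨h1, a.2⟩))
    haveI := hA'nil
    exact (Group.isNilpotent_congr (MonoidHom.ofInjective hf)).mpr inferInstance
  have hAcyc : IsCyclic A := by
    rcases cyclic_or_quaternion (E := A0) hAsyl with h | ⟨C, Q, -, -, -, -, n, ⟨eQ⟩⟩
    · exact isCyclic_of_surjective _ (A0.equivMapOfInjective _ L.subtype_injective).surjective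
    · exfalso
      have h1 : Nat.card Q ∣ Nat.card A := by
        rw [hA, card_map_of_injective L.subtype_injective]; exact card_subgroup_dvd_card Q
      haveI : NeZero (2 ^ n) := ⟨by positivity⟩
      rw [Nat.card_congr eQ.toEquiv, Nat.card_eq_fintype_card, QuaternionGroup.card] at h1
      exact (Nat.not_even_iff_odd.2 hAodd) (even_iff_two_dvd.2 ((Dvd.intro (2 * 2 ^ n) (by ring)).trans h1))
  have hA'cyc : IsCyclic A' := by
    rw [← hAimg]; exact isCyclic_of_surjective _ (π.subgroupMap_surjective A)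
  have hA'C : ∀ a ∈ A', a ≠ 1 → centralizer ({a} : Set (G ⧸ P)) = A' := by
    intro a ha ha1
    refine le_antisymm ?_ fun x hx => mem_centralizer_singleton_iff.2 ?_
    · haveI : (centralizer ({a} : Set (G ⧸ P))).Normal := by
        refine ⟨fun x hx g => mem_centralizer_singleton_iff.2 ?_⟩
        have hb : g⁻¹ * a * g ∈ A' := by simpa using hA'n.conj_mem a ha g⁻¹
        have hord : orderOf (g⁻¹ * a * g) = orderOf a := by
          rw [← MulEquiv.orderOf_eq (MulAut.conj g⁻¹) a]; simp [mul_assoc]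
        have hz : g⁻¹ * a * g ∈ zpowers a := by
          rw [OddLocal.eq_of_card_eq_of_le_cyclic (W := A') (A := zpowers a) (B := zpowers (g⁻¹ * a * g))
            (zpowers_le.2 ha) (zpowers_le.2 hb) (by rw [Nat.card_zpowers, Nat.card_zpowers, hord])]
          exact mem_zpowers _
        obtain ⟨i, hi⟩ := mem_zpowers_iff.1 hz
        have hc : Commute x (g⁻¹ * a * g) := hi ▸ (show Commute x a from mem_centralizer_singleton_iff.1 hx).zpow_right i
        calc g * x * g⁻¹ * a = g * (x * (g⁻¹ * a * g)) * g⁻¹ := by group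
          _ = g * ((g⁻¹ * a * g) * x) * g⁻¹ := by rw [hc.eq]
          _ = a * (g * x * g⁻¹) := by group
      exact Hall.le_fittingSubgroup (hQCN a ha1)
    · letI := hA'cyc.commGroup
      exact congrArg Subtype.val (mul_comm (⟨x, hx⟩ : A') ⟨a, ha⟩)
  refine ⟨A, hA1, hAcyc, hAodd, hAcop, hAP ▸ inferInstance, ?_, ?_, hAfpf, ?_⟩
  · rw [hAP]
    exact fun ht => hA'ne (by rw [← hmapL, ht, Subgroup.map_top_of_surjective π hsurj])
  · refine ⟨(P ⊔ A).index.primeFactorsList.length, ?_⟩
    rw [hAP, hL, index_comap_of_surjective A' hsurj]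
    refine Nat.eq_prime_pow_of_unique_prime_dvd index_ne_zero_of_finite fun {r} hr hrd => by_contra fun hrp => ?_
    haveI : Fact r.Prime := ⟨hr⟩
    rw [index_eq_card] at hrd
    obtain ⟨c, hc⟩ := exists_prime_orderOf_dvd_card' r hrd
    obtain ⟨b0, rfl⟩ := QuotientGroup.mk_surjective c
    have hout : ∀ b : G ⧸ P, b ∉ A' → b ^ r ∈ A' → b ^ r = 1 := fun b hb hbr => by_contra fun hne => hb (by
      rw [← hA'C _ hbr hne]; exact mem_centralizer_singleton_iff.2 (Commute.self_pow b r).eq)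
    have hb0r : b0 ^ r ∈ A' := (QuotientGroup.eq_one_iff _).1 (by
      rw [QuotientGroup.mk_pow, ← hc, pow_orderOf_eq_one])
    have hb0 : b0 ∉ A' := fun h => by
      rw [(QuotientGroup.eq_one_iff b0).2 h, orderOf_one] at hc; exact hr.ne_one hc.symm
    -- the action on V
    let ψ : G ⧸ P →* MulAut V := QuotientGroup.lift P MulAut.conjNormal fun x hx => hPker x hx
    have hbot : A'.map ψ = ⊥ := by
      refine FPF.eq_bot_of_splitting hr (ψ b0) _ ?_ ?_ ?_ ?_
      · refine Nat.Coprime.coprime_dvd_left (card_map_dvd _ _) ?_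
        refine Nat.Coprime.coprime_dvd_right ((card_dvd_of_le hVP).trans (dvd_of_eq hnP)) ?_
        exact Nat.Coprime.pow_right _ (hp.coprime_iff_not_dvd.2 hA'p).symm
      · rintro _ ⟨k, hk, rfl⟩
        exact ⟨b0 * k * b0⁻¹, hA'n.conj_mem k hk b0, by simp⟩
      · rintro _ ⟨k, hk, rfl⟩
        rw [← map_mul, ← map_pow, hout (b0 * k) (fun h => hb0 ((A'.mul_mem_cancel_right hk).1 h)) ?_, map_one]
        rw [← QuotientGroup.eq_one_iff (N := A'), QuotientGroup.mk_pow, QuotientGroup.mk_mul,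
          (QuotientGroup.eq_one_iff k).2 hk, mul_one, ← hc, pow_orderOf_eq_one]
      · rintro _ ⟨k, hk, rfl⟩ v
        rw [← map_mul]
        set c' := b0 * k with hc'
        have hc'A : c' ∉ A' := fun h => hb0 ((A'.mul_mem_cancel_right hk).1 h)
        have hc'r : c' ^ r = 1 := hout c' hc'A (by
          rw [← QuotientGroup.eq_one_iff (N := A'), QuotientGroup.mk_pow, hc', QuotientGroup.mk_mul,
            (QuotientGroup.eq_one_iff k).2 hk, mul_one, ← hc, pow_orderOf_eq_one])
        set w := ∏ j ∈ Finset.range r, ((ψ c') ^ j) v with hw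
        have hσw : ψ c' w = w := by
          obtain ⟨s, rfl⟩ : ∃ s, r = s + 1 := ⟨r - 1, (Nat.sub_add_cancel hr.one_le).symm⟩
          rw [hw, map_prod, Finset.prod_range_succ, Finset.prod_range_succ' (fun j => ((ψ c') ^ j) v)]
          congr 1
          · exact Finset.prod_congr rfl fun j _ => by rw [pow_succ']; rfl
          · show (ψ c' * ψ c' ^ s) v = _
            rw [← pow_succ', ← map_pow, hc'r, map_one, pow_zero]
        obtain ⟨g, hg⟩ := hsurj c'
        obtain ⟨a, hag, b, -, e, ⟨j, hj⟩, hb⟩ := exists_decomp g hp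
        have ha1 : π a = 1 := by
          obtain ⟨i, rfl⟩ := mem_zpowers_iff.1 hag
          have h1 : orderOf (π (g ^ i)) ∣ r := orderOf_dvd_of_pow_eq_one (by
            rw [map_zpow, hg, ← zpow_natCast, ← zpow_mul, mul_comm, zpow_mul, zpow_natCast, hc'r, one_zpow])
          exact orderOf_eq_one_iff.1 (Nat.eq_one_of_dvd_coprimes
            (((Nat.coprime_primes hp hr).2 (Ne.symm hrp)).pow_left j) ((orderOf_map_dvd π _).trans hj) h1)
        have hbc : π b = c' := by rw [← hg, e, map_mul, ha1, one_mul]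
        have hb1 : b ≠ 1 := fun h => hc'A (by rw [← hbc, h, map_one]; exact one_mem _)
        by_contra hw1
        refine hb1 (hfix b hb (w : G) (hVP w.2) (fun h => hw1 (Subtype.ext h)) ?_)
        have h := congrArg Subtype.val hσw
        rw [← hbc] at h
        exact mul_inv_eq_iff_eq_mul.1 h
    obtain ⟨q, hq, hqA⟩ := exists_prime_dvd_card hA1
    haveI : Fact q.Prime := ⟨hq⟩
    obtain ⟨a, ha, hao⟩ := exists_pElem A hqA
    have h1 : ψ (π a) = 1 := mem_bot.1 (hbot ▸ mem_map_of_mem ψ (hAimg ▸ mem_map_of_mem π ha))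
    have h2 := congrArg Subtype.val (DFunLike.congr_fun h1 (⟨z, hzV⟩ : V))
    exact ne_one_of_orderOf hq hao (hfix a (hAcop.coprime_dvd_left (A.orderOf_dvd_natCard ha)) z hzP hz1
      (mul_inv_eq_iff_eq_mul.1 h2))
  · intro x hx a ha ha1 hmem
    refine hx ?_
    rw [hAP]
    have ha' : π a ∈ A' := hAimg ▸ mem_map_of_mem π ha
    have hne : π a ≠ 1 := fun e => ha1 (by
      have h1 : a ∈ P := (QuotientGroup.eq_one_iff a).1 e
      rw [← orderOf_eq_one_iff]
      exact Nat.eq_one_of_dvd_coprimes ((hAcop.coprime_dvd_left (A.orderOf_dvd_natCard ha)).pow_right nP)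
        dvd_rfl (hnP ▸ P.orderOf_dvd_natCard h1))
    show π x ∈ A'
    rw [← hA'C _ ha' hne, mem_centralizer_singleton_iff]
    have h0 : π (x * a * x⁻¹ * a⁻¹) = 1 := (QuotientGroup.eq_one_iff _).2 hmem
    rw [map_mul, map_mul, map_mul, map_inv, map_inv, mul_inv_eq_one, mul_inv_eq_iff_eq_mul] at h0
    exact h0

end Cfsg.Agent.Lib.CNGroup
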