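import Cfsg.Prelude.Def_OddOrder
import Cfsg.Agent.Lib.CNGroup.Structure
import Cfsg.Agent.S0118
import Cfsg.Agent.S1458
import Mathlib.GroupTheory.Focal

/-!
Minimal simple groups of odd order with nilpotent centralizers: every maximal subgroup has a kernel.
-/

set_option autoImplicit false
open Subgroup
open scoped commutatorElement

namespace Cfsg.Agent.Lib.CNGroup

universe u

theorem pElem_mem_of_normal {G : Type u} [Group G] [Finite G] {p : ℕ} [hp : Fact p.Prime] {H : Subgroup G}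
    (hH : Group.IsNilpotent H) (P : Sylow p G) (hPH : (P : Subgroup G) ≤ H) {u : G} (hu : u ∈ H)
    (hpu : ∃ k, orderOf u ∣ p ^ k) : u ∈ (P : Subgroup G) := by
  let Q : Sylow p H := P.subtype hPH
  obtain ⟨k, hk⟩ := hpu
  have hpg : IsPGroup p (zpowers (⟨u, hu⟩ : H)) := by
    obtain ⟨j, -, hj⟩ := (Nat.dvd_prime_pow hp.out).1 hk
    exact IsPGroup.of_card (n := j) (by rw [Nat.card_zpowers, Subgroup.orderOf_mk, hj])
  obtain ⟨S, hS⟩ := hpg.exists_le_sylow
  haveI := Sylow.unique_of_normal Q (sylow_normal hH Q)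
  exact (Subsingleton.elim S Q ▸ hS (mem_zpowers _) : (⟨u, hu⟩ : H) ∈ (Q : Subgroup H))

theorem le_normalizer_sylow_of_nil {G : Type u} [Group G] [Finite G] {p : ℕ} [Fact p.Prime] {H : Subgroup G}
    (hH : Group.IsNilpotent H) (P : Sylow p G) (hPH : (P : Subgroup G) ≤ H) :
    H ≤ normalizer ((P : Subgroup G) : Set G) := by
  have h : ((P.subtype hPH : Sylow p H) : Subgroup H).Normal := sylow_normal hH (P.subtype hPH)
  exact (normal_subgroupOf_iff_le_normalizer hPH).1 h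

section ThreeStep

variable {X : Type u} [Group X] [Finite X] {p : ℕ}

theorem mem_of_index (L : Subgroup X) [L.Normal] {m : ℕ} (hi : L.index ∣ m) {y : X}
    (hy : (orderOf y).Coprime m) : y ∈ L :=
  (QuotientGroup.eq_one_iff y).1 (orderOf_eq_one_iff.1 (Nat.eq_one_of_dvd_coprimes hy
    (orderOf_map_dvd (QuotientGroup.mk' L) y)
    (((_root_.orderOf_dvd_natCard _).trans (dvd_of_eq (index_eq_card L).symm)).trans hi)))

theorem eq_one_of_mem_pCore {y : X} (hy : (orderOf y).Coprime p) (hyP : y ∈ Cfsg.pCore p X) : y = 1 := by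
  obtain ⟨k, hk⟩ := Hall.isPGroup_pCore (G := X) p ⟨y, hyP⟩
  refine orderOf_eq_one_iff.1 (Nat.eq_one_of_dvd_coprimes (hy.pow_right k) dvd_rfl ?_)
  exact orderOf_dvd_of_pow_eq_one (congrArg Subtype.val hk)

theorem threeStep_coprime_eq_one (hX : Cfsg.IsThreeStepGroup p X) {y : X} (hy : (orderOf y).Coprime p)
    (hc : ∀ v ∈ Cfsg.pCore p X, Commute y v) : y = 1 := by
  obtain ⟨hP1, A, -, -, -, -, hn, -, ⟨n, hidx⟩, hfix, -⟩ := hX
  haveI := hn
  haveI : (Cfsg.pCore p X).Normal := Hall.pCore_normal p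
  have hyL := mem_of_index (Cfsg.pCore p X ⊔ A) (dvd_of_eq hidx) (hy.pow_right n)
  obtain ⟨u, hu, v, hv, rfl⟩ := mem_sup_of_normal_left.1 hyL
  have hv1 : v = 1 := by
    by_contra hv1
    -- `v` centralizes `u`, so `u = 1` and `v` centralizes the core
    have hvu : Commute v u := by
      have h := hc u hu
      show v * u = u * v
      have h' : u * v * u = u * (u * v) := h.eq
      rw [mul_assoc] at h'
      exact mul_left_cancel h'
    have hu1 : u = 1 := mem_bot.1 (hfix v hv hv1 ▸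
      (⟨hu, mem_centralizer_singleton_iff.2 hvu.eq.symm⟩ : u ∈ Cfsg.pCore p X ⊓ centralizer ({v} : Set X)))
    obtain ⟨w, hw, hw1⟩ := (bot_or_exists_ne_one _).resolve_left hP1
    have h := hc w hw
    rw [hu1, one_mul] at h
    exact hw1 (mem_bot.1 (hfix v hv hv1 ▸
      (⟨hw, mem_centralizer_singleton_iff.2 h.eq.symm⟩ : w ∈ Cfsg.pCore p X ⊓ centralizer ({v} : Set X))))
  subst hv1
  rw [mul_one] at hy ⊢
  exact eq_one_of_mem_pCore hy hu

theorem dvd_pow_self_of_primes {d m : ℕ} (hd : d ≠ 0) (h : ∀ r : ℕ, r.Prime → r ∣ d → r ∣ m) :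
    d ∣ m ^ d := by
  rcases eq_or_ne m 0 with rfl | hm
  · simp [zero_pow hd]
  rw [← Nat.factorization_le_iff_dvd hd (pow_ne_zero _ hm), Nat.factorization_pow]
  intro r
  by_cases hr : r.Prime ∧ r ∣ d
  · have h1 : 0 < m.factorization r := hr.1.factorization_pos_of_dvd hm (h r hr.1 hr.2)
    have h2 : d.factorization r < d := Nat.factorization_lt r hd
    simp only [Finsupp.smul_apply, smul_eq_mul]
    calc d.factorization r ≤ d * 1 := by omega
      _ ≤ d * m.factorization r := Nat.mul_le_mul_left _ h1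
  · have : d.factorization r = 0 := by
      rw [Nat.factorization_eq_zero_iff]
      tauto
    simp [this]

theorem threeStep_pPrimeCore [hp : Fact p.Prime] (hX : Cfsg.IsThreeStepGroup p X) : Cfsg.pPrimeCore p X = ⊥ := by
  refine eq_bot_iff.2 fun y hy => mem_bot.2 (threeStep_coprime_eq_one hX ?_ fun v hv => ?_)
  · exact (Hall.coprime_card_pPrimeCore p).coprime_dvd_left ((Cfsg.pPrimeCore p X).orderOf_dvd_natCard hy)
  · haveI : (Cfsg.pCore p X).Normal := Hall.pCore_normal p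
    refine commute_of_normal_of_disjoint _ _ inferInstance inferInstance ?_ y v hy hv
    obtain ⟨k, hk⟩ := IsPGroup.iff_card.1 (Hall.isPGroup_pCore (G := X) p)
    exact disjoint_of_coprime_natCard (hk ▸ (Hall.coprime_card_pPrimeCore p).pow_right k)

theorem not_threeStep_of_nilpotent_quotient {N : Subgroup X} [N.Normal] (hN : Group.IsNilpotent N)
    (hq : Group.IsNilpotent (X ⧸ N)) : ¬ Cfsg.IsThreeStepGroup p X := by
  intro hX
  set P := Cfsg.pCore p X
  haveI hPn : P.Normal := Hall.pCore_normal p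
  -- the prime divisors of the order of the normal nilpotent subgroup divide `p`
  have hprime : ∀ r : ℕ, r.Prime → r ∣ Nat.card N → r ∣ p := by
    intro r hr hrd
    by_contra hrp
    haveI : Fact r.Prime := ⟨hr⟩
    let R : Sylow r N := Classical.arbitrary _
    haveI hRn := sylow_normal hN R
    haveI : (R : Subgroup N).Characteristic := R.characteristic_of_normal hRn
    haveI : ((R : Subgroup N).map N.subtype).Normal := ConjAct.normal_of_characteristic_of_normal
    have hcop : ∀ y ∈ (R : Subgroup N).map N.subtype, (orderOf y).Coprime p := fun y hy => by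
      obtain ⟨j, hj⟩ := IsPGroup.iff_orderOf.1 (R.2.map N.subtype) ⟨y, hy⟩
      rw [Subgroup.orderOf_mk] at hj
      rw [hj]
      exact ((hr.coprime_iff_not_dvd).2 hrp).pow_left j
    have hdis : Disjoint ((R : Subgroup N).map N.subtype) P :=
      disjoint_iff_inf_le.2 fun y hy => mem_bot.2 (eq_one_of_mem_pCore (hcop y hy.1) hy.2)
    have hRbot : (R : Subgroup N).map N.subtype = ⊥ := eq_bot_iff.2 fun y hy => mem_bot.2
      (threeStep_coprime_eq_one hX (hcop y hy) fun w hw =>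
        commute_of_normal_of_disjoint _ _ inferInstance hPn hdis y w hy hw)
    rw [map_eq_bot_iff_of_injective _ N.subtype_injective] at hRbot
    have := R.dvd_card_of_dvd_card hrd
    rw [hRbot, card_bot, Nat.dvd_one] at this
    exact hr.ne_one this
  have hNP : N ≤ P := by
    refine le_sSup ⟨inferInstance, fun g => ⟨orderOf (g : X), Subtype.ext ?_⟩⟩
    exact orderOf_dvd_iff_pow_eq_one.1 (dvd_pow_self_of_primes (orderOf_pos _).ne' fun r hr hrd =>
      hprime r hr (hrd.trans (N.orderOf_dvd_natCard g.2)))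
  obtain ⟨-, A, hA1, -, -, hAcop, hn, hne, ⟨n, hidx⟩, -, hcomm⟩ := hX
  haveI := hn
  obtain ⟨q, hq', hqd⟩ := Nat.exists_prime_and_dvd (n := (P ⊔ A).index) fun h => hne (index_eq_one.1 h)
  haveI : Fact q.Prime := ⟨hq'⟩
  have hqp : q ∣ p := hq'.dvd_of_dvd_pow (hidx ▸ hqd)
  obtain ⟨c0, hc0⟩ := exists_prime_orderOf_dvd_card' q ((index_eq_card (P ⊔ A)) ▸ hqd)
  obtain ⟨x, rfl⟩ := QuotientGroup.mk_surjective c0
  obtain ⟨a, hax, b, hbx, e, hpa, hpb⟩ := exists_decomp x hq'
  have hbL : b ∈ P ⊔ A := by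
    refine (QuotientGroup.eq_one_iff b).1 (orderOf_eq_one_iff.1 (Nat.eq_one_of_dvd_coprimes hpb
      (orderOf_map_dvd (QuotientGroup.mk' (P ⊔ A)) b) ?_))
    obtain ⟨i, rfl⟩ := mem_zpowers_iff.1 hbx
    rw [← hc0, QuotientGroup.mk_zpow]
    exact orderOf_dvd_of_mem_zpowers (zpow_mem (mem_zpowers _) i)
  have haL : a ∉ P ⊔ A := fun h => by
    rw [(QuotientGroup.eq_one_iff x).2 (e ▸ mul_mem h hbL), orderOf_one] at hc0
    exact hq'.ne_one hc0.symm
  obtain ⟨c, hcA, hc1⟩ := (bot_or_exists_ne_one A).resolve_left hA1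
  refine hcomm a haL c hcA hc1 (hNP ?_)
  have hcm : Commute (QuotientGroup.mk' N a) (QuotientGroup.mk' N c) := by
    haveI := hq
    refine Transfer.commute_of_coprime_orderOf ?_
    exact ((coprime_of_pdvd hpa ((hAcop.coprime_dvd_left (A.orderOf_dvd_natCard hcA)).coprime_dvd_right hqp)).coprime_dvd_left
      (orderOf_map_dvd _ a)).coprime_dvd_right (orderOf_map_dvd _ c)
  refine (QuotientGroup.eq_one_iff _).1 ?_
  show QuotientGroup.mk' N (a * c * a⁻¹ * c⁻¹) = 1
  rw [map_mul, map_mul, map_mul, map_inv, map_inv, hcm.eq]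
  group

end ThreeStep

variable {G : Type u} [Group G] [Finite G]

theorem exists_coatom_ge (H : Subgroup G) (hH : H ≠ ⊤) : ∃ M, IsCoatom M ∧ H ≤ M :=
  (eq_top_or_exists_le_coatom H).resolve_left hH

theorem commutator_eq_top (hG : Cfsg.IsMinSimpleOddOrder G) : commutator G = ⊤ := by
  haveI := hG.2.1
  refine (IsSimpleGroup.eq_bot_or_eq_top_of_normal (commutator G) inferInstance).resolve_left fun h => hG.2.2.1 ?_
  refine ⟨⟨fun a b => commutatorElement_eq_one_iff_mul_comm.1 (mem_bot.1 (h ▸ ?_))⟩⟩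
  exact commutator_mem_commutator (mem_top a) (mem_top b)

theorem normalizer_ne_top (hG : Cfsg.IsMinSimpleOddOrder G) {H : Subgroup G} (h1 : H ≠ ⊥) (h2 : H ≠ ⊤) :
    normalizer (H : Set G) ≠ ⊤ := by
  intro h
  haveI := hG.2.1
  rcases IsSimpleGroup.eq_bot_or_eq_top_of_normal H (normalizer_eq_top_iff.1 h) with h' | h'
  exacts [h1 h', h2 h']

theorem not_nilpotent (hG : Cfsg.IsMinSimpleOddOrder G) : ¬ Group.IsNilpotent G := by
  intro h
  haveI := hG.2.1
  haveI : Group.IsSolvable G := inferInstance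
  have := Group.IsSolvable.commutator_lt_top_of_nontrivial G
  exact this.ne (commutator_eq_top hG)

theorem sylow_ne_two (hG : Cfsg.IsMinSimpleOddOrder G) {p : ℕ} [Fact p.Prime] (P : Sylow p G)
    (hP : (P : Subgroup G) ≠ ⊥) : p ≠ 2 := by
  rintro rfl
  obtain ⟨q, hq, hqd⟩ := exists_prime_dvd_card hP
  obtain ⟨n, hn⟩ := IsPGroup.iff_card.1 P.2
  rw [hn] at hqd
  have hq2 := (Nat.prime_dvd_prime_iff_eq hq Nat.prime_two).1 (hq.dvd_of_dvd_pow hqd)
  subst hq2
  have h2 : 2 ∣ Nat.card G := by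
    refine ((hn ▸ hqd : 2 ∣ Nat.card (P : Subgroup G))).trans ?_
    exact card_subgroup_dvd_card _
  exact Nat.not_even_iff_odd.2 hG.1 (even_iff_two_dvd.2 h2)

theorem sl2_free (hodd : Odd (Nat.card G)) {p : ℕ} [hp : Fact p.Prime] (hp2 : p ≠ 2) :
    ¬ ∃ (H K : Subgroup G) (hK : (K.subgroupOf H).Normal),
      Nonempty ((H ⧸ K.subgroupOf H) ≃* Matrix.SpecialLinearGroup (Fin 2) (ZMod p)) := by
  rintro ⟨H, K, hK, ⟨e⟩⟩
  haveI : Fact (2 < p) := ⟨lt_of_le_of_ne hp.out.two_le (Ne.symm hp2)⟩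
  have h1 : orderOf (-1 : Matrix.SpecialLinearGroup (Fin 2) (ZMod p)) = 2 := by
    refine orderOf_eq_prime (by simp) fun h => ?_
    have h2 := congrArg (fun M : Matrix.SpecialLinearGroup (Fin 2) (ZMod p) => M.1 0 0) h
    simp at h2
    exact ZMod.neg_one_ne_one h2
  have h2 : 2 ∣ Nat.card (H ⧸ K.subgroupOf H) := by
    rw [← h1, Nat.card_congr e.toEquiv]; exact orderOf_dvd_natCard _
  exact Nat.not_even_iff_odd.2 hodd
    (even_iff_two_dvd.2 ((h2.trans (card_quotient_dvd_card _)).trans (card_subgroup_dvd_card H)))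

theorem normalizer_le_normalizer_zj (p : ℕ) (S : Subgroup G) :
    normalizer (S : Set G) ≤ normalizer (Cfsg.centerThompsonOf p S : Set G) :=
  (FPF.normalizer_le_normalizer_thompson S).trans (FPF.normalizer_le_normalizer_center _)

theorem normalizer_zj_ne_top (hG : Cfsg.IsMinSimpleOddOrder G) {p : ℕ} [Fact p.Prime] (P : Sylow p G)
    (hP : (P : Subgroup G) ≠ ⊥) : normalizer (Cfsg.centerThompsonOf p (P : Subgroup G) : Set G) ≠ ⊤ := by
  refine normalizer_ne_top hG (S0117.zje_ne_bot P.2 hP) fun h => not_nilpotent hG ?_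
  have h1 : Cfsg.centerThompsonOf p (P : Subgroup G) ≤ (P : Subgroup G) :=
    inf_le_left.trans (map_subtype_le _)
  exact Group.isNilpotent_top.1 (nil_mono P.2.isNilpotent (h ▸ h1))

theorem fusion_control (hG : Cfsg.IsMinSimpleOddOrder G) {p : ℕ} [Fact p.Prime] (P : Sylow p G)
    (hP : (P : Subgroup G) ≠ ⊥) (A : Set G) (hA : A ⊆ (P : Set G)) (g : G)
    (hAg : (fun a => g⁻¹ * a * g) '' A ⊆ (P : Set G)) :
    ∃ n ∈ normalizer (Cfsg.centerThompsonOf p (P : Subgroup G) : Set G),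
      ∀ a ∈ A, n⁻¹ * a * n = g⁻¹ * a * g :=
  S0118.result (sylow_ne_two hG P hP) (sl2_free hG.1 (sylow_ne_two hG P hP)) P A hA g hAg

/-- A subgroup containing `N(Z(J(P)))` has no nontrivial nilpotent image of `P`. -/
theorem sylow_map_eq_one (hG : Cfsg.IsMinSimpleOddOrder G) {p : ℕ} [Fact p.Prime] (P : Sylow p G)
    (hP : (P : Subgroup G) ≠ ⊥) (M : Subgroup G)
    (hM : normalizer (Cfsg.centerThompsonOf p (P : Subgroup G) : Set G) ≤ M) {X : Type u} [Group X]
    (hX : Group.IsNilpotent X) (f : M →* X) (x : M) (hx : (x : G) ∈ (P : Subgroup G)) : f x = 1 := by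
  have hPM : (P : Subgroup G) ≤ M := (le_normalizer.trans (normalizer_le_normalizer_zj p _)).trans hM
  set Q := (P : Subgroup G).subgroupOf M with hQ
  have hfoc : (P : Subgroup G) ≤ ((⁅Q, ⊤⁆ : Subgroup M)).map M.subtype := by
    have h1 := Subgroup.commutator_inf_eq_focalSubgroup P
    rw [commutator_eq_top hG, top_inf_eq] at h1
    refine le_trans (le_of_eq h1) ?_
    rw [focalSubgroup_def, closure_le]
    rintro g ⟨hg, a, ha, v, rfl⟩
    have hconj : v * a⁻¹ * v⁻¹ ∈ (P : Subgroup G) := by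
      have := mul_mem (inv_mem ha) hg
      rw [commutatorElement_def] at this
      simpa [mul_assoc] using this
    obtain ⟨n, hn, hne⟩ := fusion_control hG P hP {a⁻¹} (Set.singleton_subset_iff.2 (inv_mem ha)) v⁻¹ (by
      rw [Set.image_singleton, Set.singleton_subset_iff, inv_inv]
      exact hconj)
    have h2 : n⁻¹ * a⁻¹ * n = v * a⁻¹ * v⁻¹ := by simpa using hne a⁻¹ rfl
    refine ⟨⁅(⟨a, hPM ha⟩ : M), (⟨n⁻¹, inv_mem (hM hn)⟩ : M)⁆,
      commutator_mem_commutator (mem_subgroupOf.2 ha) (mem_top _), ?_⟩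
    show a * n⁻¹ * a⁻¹ * n⁻¹⁻¹ = ⁅a, v⁆
    rw [commutatorElement_def, inv_inv, show a * n⁻¹ * a⁻¹ * n = a * (n⁻¹ * a⁻¹ * n) by group, h2]
    group
  have hQle : Q ≤ ⁅Q, ⊤⁆ := fun y hy => by
    obtain ⟨y', hy', e⟩ := hfoc (mem_subgroupOf.1 hy)
    rwa [← Subtype.ext e]
  have hser : ∀ n, Q.map f ≤ (⊤ : Subgroup X).lowerCentralSeries n := by
    intro n
    induction n with
    | zero => exact le_top
    | succ n ih =>
      refine (map_mono hQle).trans ?_
      rw [map_commutator, Subgroup.lowerCentralSeries_succ]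
      exact commutator_mono ih le_top
  obtain ⟨n, hn⟩ := _root_.nilpotent_iff_lowerCentralSeries.1 hX
  exact mem_bot.1 (hn ▸ hser n (mem_map_of_mem f (mem_subgroupOf.2 hx)))

/-- Every maximal subgroup has a kernel. -/
theorem coatom_kernel (hG : Cfsg.IsMinSimpleOddOrder G) (hCN : Cfsg.IsCNGroup G) {M : Subgroup G}
    (hM : IsCoatom M) : ∃ K : Subgroup M, IsKernel K := by
  haveI := hG.2.1
  haveI : Group.IsSolvable M := hG.2.2.2 M hM.1
  have hM1 : M ≠ ⊥ := by
    rintro rfl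
    refine hG.2.2.1 ?_
    obtain ⟨g, hg⟩ := exists_ne (1 : G)
    have htop : zpowers g = ⊤ := hM.2 _ (bot_lt_iff_ne_bot.2 fun h => hg (zpowers_eq_bot.1 h))
    refine ⟨⟨fun a b => ?_⟩⟩
    obtain ⟨i, rfl⟩ : a ∈ zpowers g := htop ▸ mem_top a
    obtain ⟨j, rfl⟩ : b ∈ zpowers g := htop ▸ mem_top b
    exact ((Commute.refl g).zpow_zpow i j).eq
  rcases trichotomy (cn_subgroup hCN M) with hnil | h | ⟨p, hp, h3⟩
  · exfalso
    have hmax : IsMaxNil M := ⟨hnil, fun L hL hML => by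
      by_contra hne
      exact not_nilpotent hG (Group.isNilpotent_top.1 (hM.2 L (lt_of_le_of_ne hML (Ne.symm hne)) ▸ hL))⟩
    obtain ⟨q, hq, hqd⟩ := exists_prime_dvd_card hM1
    haveI : Fact q.Prime := ⟨hq⟩
    obtain ⟨P, hPM⟩ := exists_sylow_le hCN hmax hqd
    have hP1 : (P : Subgroup G) ≠ ⊥ := P.ne_bot_of_dvd_card (hqd.trans (card_subgroup_dvd_card M))
    have hle : M ≤ normalizer (Cfsg.centerThompsonOf q (P : Subgroup G) : Set G) :=
      (le_normalizer_sylow_of_nil hnil P hPM).trans (normalizer_le_normalizer_zj q _)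
    have heq : normalizer (Cfsg.centerThompsonOf q (P : Subgroup G) : Set G) = M :=
      ((hM.le_iff).1 hle).resolve_left (normalizer_zj_ne_top hG P hP1)
    obtain ⟨x, hx, hx1⟩ := (bot_or_exists_ne_one _).resolve_left hP1
    exact hx1 (congrArg Subtype.val
      (sylow_map_eq_one hG P hP1 M heq.le hnil (MonoidHom.id M) ⟨x, hPM hx⟩ hx))
  · exact h
  · exfalso
    haveI : Fact p.Prime := ⟨hp⟩
    obtain ⟨S⟩ : Nonempty (Sylow p M) := inferInstance
    have hoddM : Odd (Nat.card M) := Odd.of_dvd_nat hG.1 (card_subgroup_dvd_card M)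
    have hn := S1458.result hoddM p S
    rw [threeStep_pPrimeCore h3, sup_bot_eq] at hn
    have hP1 : (S : Subgroup M) ≠ ⊥ := fun h => h3.1 (eq_bot_iff.2 (h ▸ Hall.pCore_le_sylow S))
    obtain ⟨P, hSP⟩ := (S.2.map M.subtype).exists_le_sylow
    set T := (S : Subgroup M).map M.subtype with hT
    have hzn : M ≤ normalizer (Cfsg.centerThompsonOf p T : Set G) := by
      rw [hT, ← S0117.map_centerThompsonOf M.subtype (S : Subgroup M) M.subtype_injective.injOn]
      intro m hm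
      refine mem_normalizer_of_conj_smul_eq' ?_
      rintro _ ⟨y, hy, rfl⟩
      exact ⟨⟨m, hm⟩ * y * (⟨m, hm⟩ : M)⁻¹, hn.conj_mem y hy _, rfl⟩
    have hne : normalizer (Cfsg.centerThompsonOf p T : Set G) ≠ ⊤ := by
      refine normalizer_ne_top hG (S0117.zje_ne_bot (S.2.map _) fun h => hP1 ?_) fun h => not_nilpotent hG ?_
      · rwa [hT, map_eq_bot_iff_of_injective _ M.subtype_injective] at h
      · have h1 : Cfsg.centerThompsonOf p T ≤ T := inf_le_left.trans (map_subtype_le _)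
        exact Group.isNilpotent_top.1 (nil_mono (S.2.map _).isNilpotent (h ▸ h1))
    have heq : normalizer (Cfsg.centerThompsonOf p T : Set G) = M := ((hM.le_iff).1 hzn).resolve_left hne
    have hTP : T = (P : Subgroup G) := by
      refine le_antisymm hSP ?_
      by_contra hnot
      haveI : Group.IsNilpotent (P : Subgroup G) := P.2.isNilpotent
      have hlt : T.subgroupOf P < ⊤ := lt_top_iff_ne_top.2 fun h => hnot (subgroupOf_eq_top.1 h)
      have hnl := Group.normalizerCondition_of_isNilpotent (G := (P : Subgroup G)) _ hlt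
      obtain ⟨w, hw, hwT⟩ := SetLike.exists_of_lt hnl
      rw [← subgroupOf_normalizer_eq hSP, mem_subgroupOf] at hw
      have hwM : (w : G) ∈ M := heq ▸ normalizer_le_normalizer_zj p T hw
      have hTM : T ≤ M := map_subtype_le _
      have hpS : IsPGroup p ↥((P : Subgroup G).subgroupOf M) := P.2.comap_subtype
      have := S.3 hpS (fun y hy => hSP ⟨y, hy, rfl⟩)
      exact hwT (mem_subgroupOf.2 ⟨⟨w, hwM⟩, this ▸ (mem_subgroupOf.2 w.2), rfl⟩)
    obtain ⟨hP0, A, hA1, -, -, -, hLn, hLne, ⟨n, hidx⟩, -, -⟩ := h3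
    haveI := hLn
    have hq : Group.IsNilpotent (M ⧸ (Cfsg.pCore p M ⊔ A)) :=
      (IsPGroup.of_card (n := n) (by rw [← index_eq_card, hidx])).isNilpotent
    have hS : (S : Subgroup M) ≤ Cfsg.pCore p M ⊔ A := fun y hy => (QuotientGroup.eq_one_iff y).1
      (sylow_map_eq_one hG P (hTP ▸ fun h => hP1 (by rwa [hT, map_eq_bot_iff_of_injective _ M.subtype_injective] at h))
        M (by rw [← hTP]; exact heq.le) hq (QuotientGroup.mk' _) y (hTP ▸ ⟨y, hy, rfl⟩))
    refine hLne (index_eq_one.1 ?_)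
    have hd := index_dvd_of_le hS
    rw [hidx] at hd ⊢
    rcases Nat.eq_zero_or_pos n with h0 | h0
    · rw [h0, pow_zero]
    · exact absurd ((dvd_pow_self p h0.ne').trans hd) S.not_dvd_index
where
  mem_normalizer_of_conj_smul_eq' {H : Subgroup G} {g : G} (h : ∀ x ∈ H, g * x * g⁻¹ ∈ H) :
      g ∈ normalizer (H : Set G) := by
    haveI : Finite H := inferInstance
    exact mem_normalizer_fintype h

/-- A maximal nilpotent subgroup is the kernel of its normalizer, a maximal subgroup. -/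
theorem maxNil_structure (hG : Cfsg.IsMinSimpleOddOrder G) (hCN : Cfsg.IsCNGroup G) {H : Subgroup G}
    (hH : IsMaxNil H) :
    IsCoatom (normalizer (H : Set G)) ∧ IsKernel (H.subgroupOf (normalizer (H : Set G))) ∧
      ∀ a ∈ H, a ≠ 1 → centralizer ({a} : Set G) ≤ H := by
  haveI := hG.2.1
  obtain ⟨p, hp, hpd⟩ := exists_prime_dvd_card (maxNil_ne_bot hH)
  haveI : Fact p.Prime := ⟨hp⟩
  obtain ⟨P, hPH⟩ := exists_sylow_le hCN hH hpd
  have hP1 : (P : Subgroup G) ≠ ⊥ := P.ne_bot_of_dvd_card (hpd.trans (card_subgroup_dvd_card H))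
  obtain ⟨M, hM, hzM⟩ := exists_coatom_ge _ (normalizer_zj_ne_top hG P hP1)
  obtain ⟨K, hK⟩ := coatom_kernel hG hCN hM
  haveI := hK.normal
  have hPK : (P : Subgroup G) ≤ K.map M.subtype := fun x hx =>
    have hxM : x ∈ M := hzM (normalizer_le_normalizer_zj p _ (le_normalizer hx))
    ⟨⟨x, hxM⟩, (QuotientGroup.eq_one_iff _).1
      (sylow_map_eq_one hG P hP1 M hzM (hK.quotient_nilpotent (cn_subgroup hCN M))
        (QuotientGroup.mk' K) ⟨x, hxM⟩ hx), rfl⟩
  have hHM : H ≤ M :=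
    ((le_normalizer_sylow_of_nil hH.1 P hPH).trans (normalizer_le_normalizer_zj p _)).trans hzM
  obtain ⟨z, hzH, hzo, hzc⟩ := exists_central_prime hH.1 hpd
  have hz1 := ne_one_of_orderOf hp hzo
  have hzP : z ∈ (P : Subgroup G) := pElem_mem_of_normal hH.1 P hPH hzH ⟨1, by rw [hzo, pow_one]⟩
  obtain ⟨z', hz'K, hz'⟩ := hPK hzP
  have hHK : H ≤ K.map M.subtype := fun h hh => ⟨⟨h, hHM hh⟩,
    hK.cent z' hz'K (fun e => hz1 (by rw [← hz', e]; rfl)) (mem_centralizer_singleton_iff.2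
      (Subtype.ext (by show h * (M.subtype z') = (M.subtype z') * h; rw [hz']; exact (hzc h hh).eq.symm))), rfl⟩
  have hKH : K.map M.subtype = H := hH.2 _ (nil_map hK.nil _) hHK
  have hsub : H.subgroupOf M = K := by
    rw [← hKH, subgroupOf, comap_map_eq_self_of_injective M.subtype_injective]
  have hMN : M ≤ normalizer (H : Set G) :=
    (normal_subgroupOf_iff_le_normalizer hHM).1 (hsub ▸ hK.normal)
  have hHtop : H ≠ ⊤ := fun h => not_nilpotent hG (Group.isNilpotent_top.1 (h ▸ hH.1))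
  have hNe : normalizer (H : Set G) = M :=
    ((hM.le_iff).1 hMN).resolve_left (normalizer_ne_top hG (maxNil_ne_bot hH) hHtop)
  refine ⟨hNe ▸ hM, ?_, ?_⟩
  · rw [hNe, hsub]; exact hK
  intro a ha ha1
  by_cases h2 : ∃ q, q.Prime ∧ q ≠ p ∧ q ∣ Nat.card H
  · obtain ⟨q, hq, hqp, hqd⟩ := h2
    exact centralizer_le_of_two hCN hH hq hp hqp hqd hpd ha ha1
  push Not at h2
  -- prime power case
  have hHp : H = (P : Subgroup G) := by
    refine le_antisymm (fun h hh => pElem_mem_of_normal hH.1 P hPH hh ⟨(Nat.card H).primeFactorsList.length, ?_⟩) hPH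
    exact (H.orderOf_dvd_natCard hh).trans (dvd_of_eq (Nat.eq_prime_pow_of_unique_prime_dvd Nat.card_pos.ne'
      fun {d} hd hdv => by_contra fun hne => h2 d hd hne hdv))
  have hzC : z ∈ centralizer ({a} : Set G) := mem_centralizer_singleton_iff.2 (hzc a ha).eq
  set C := centralizer ({a} : Set G) with hC
  have hCnil : Group.IsNilpotent C := hCN a ha1
  by_contra hnot
  haveI := hCnil
  have hlt : H.subgroupOf C < ⊤ := lt_top_iff_ne_top.2 fun h => hnot (subgroupOf_eq_top.1 h)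
  obtain ⟨c, hc, hcH⟩ := SetLike.exists_of_lt
    (Group.normalizerCondition_of_isNilpotent (G := C) _ hlt)
  have hcD : ∀ d ∈ H ⊓ C, (c : G)⁻¹ * d * c ∈ H := fun d hd => by
    have h := (mem_normalizer_iff.1 (inv_mem hc) ⟨d, hd.2⟩).1 (mem_subgroupOf.2 hd.1)
    simpa [mem_subgroupOf] using h
  obtain ⟨n, hn, hne⟩ := fusion_control hG P hP1 ((H ⊓ C : Subgroup G) : Set G)
    (fun d hd => (hHp.le hd.1 : d ∈ (P : Subgroup G))) (c : G) (by
      rintro _ ⟨d, hd, rfl⟩
      exact hHp.le (hcD d hd))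
  have hzD : z ∈ H ⊓ C := ⟨hzH, hzC⟩
  have hcn : (c : G) * n⁻¹ ∈ H := by
    refine mem_of_commute hCN hH hz1 hzc ?_
    have h := hne z hzD
    show (c : G) * n⁻¹ * z = z * ((c : G) * n⁻¹)
    calc (c : G) * n⁻¹ * z = c * (n⁻¹ * z * n) * n⁻¹ := by group
      _ = c * ((c : G)⁻¹ * z * c) * n⁻¹ := by rw [h]
      _ = z * ((c : G) * n⁻¹) := by group
  have hcM : (c : G) ∈ M := by
    have := mul_mem (hHM hcn) (hzM hn)
    rwa [inv_mul_cancel_right] at this
  refine hcH (mem_subgroupOf.2 ?_)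
  have haK : (⟨a, hHM ha⟩ : M) ∈ K := hsub ▸ mem_subgroupOf.2 ha
  have h := hK.cent _ haK (fun e => ha1 (congrArg Subtype.val e))
    (mem_centralizer_singleton_iff.2 (Subtype.ext (mem_centralizer_singleton_iff.1 c.2)) :
      (⟨(c : G), hcM⟩ : M) ∈ centralizer ({(⟨a, hHM ha⟩ : M)} : Set M))
  rw [← hsub] at h
  exact h

/-- The kernel of a maximal subgroup is maximal nilpotent in the whole group. -/
theorem isMaxNil_kernel (hG : Cfsg.IsMinSimpleOddOrder G) {M : Subgroup G} (hM : IsCoatom M)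
    {K : Subgroup M} (hK : IsKernel K) :
    IsMaxNil (K.map M.subtype) ∧ normalizer (K.map M.subtype : Set G) = M := by
  haveI := hK.normal
  set H := K.map M.subtype with hH
  have hHM : H ≤ M := map_subtype_le _
  have hsub : H.subgroupOf M = K := comap_map_eq_self_of_injective M.subtype_injective K
  have hne : H ≠ ⊥ := fun h => hK.ne_bot (by rw [← hsub, h, bot_subgroupOf])
  have hMN : M ≤ normalizer (H : Set G) := (normal_subgroupOf_iff_le_normalizer hHM).1 (hsub ▸ hK.normal)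
  have hN : normalizer (H : Set G) = M := ((hM.le_iff).1 hMN).resolve_left (normalizer_ne_top hG hne fun h =>
    hM.1 (eq_top_iff.2 (h ▸ hHM)))
  refine ⟨⟨nil_map hK.nil _, fun L hL hHL => le_antisymm ?_ hHL⟩, hN⟩
  by_contra hnot
  haveI := hL
  have hlt : H.subgroupOf L < ⊤ := lt_top_iff_ne_top.2 fun h => hnot (subgroupOf_eq_top.1 h)
  obtain ⟨w, hw, hwH⟩ := SetLike.exists_of_lt (Group.normalizerCondition_of_isNilpotent (G := L) _ hlt)
  rw [← subgroupOf_normalizer_eq hHL, mem_subgroupOf, hN] at hw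
  have hnil : Group.IsNilpotent ↥((L ⊓ M).subgroupOf M) :=
    (Group.isNilpotent_congr (subgroupOfEquivOfLe inf_le_right)).mpr (nil_mono hL inf_le_left)
  have hle : K ≤ (L ⊓ M).subgroupOf M := fun k hk => ⟨hHL ⟨k, hk, rfl⟩, k.2⟩
  have hmem : (⟨(w : G), hw⟩ : M) ∈ K := hK.isMaxNil.2 _ hnil hle ▸ (⟨w.2, hw⟩ : (w : G) ∈ L ⊓ M)
  exact hwH (mem_subgroupOf.2 ⟨_, hmem, rfl⟩)

omit [Finite G] in
theorem isComplIn_map {H M : Subgroup G} (hHM : H ≤ M) {E : Subgroup M}
    (hE : IsComplement' (H.subgroupOf M) E) : Cfsg.IsComplIn H (E.map M.subtype) M := by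
  refine ⟨hHM, map_subtype_le E, eq_bot_iff.2 ?_, fun m hm => ?_⟩
  · rintro _ ⟨hx, e, he, rfl⟩
    exact mem_bot.2 (congrArg Subtype.val (mem_bot.1 (hE.disjoint.le_bot ⟨mem_subgroupOf.2 hx, he⟩)))
  · obtain ⟨⟨⟨a, ha⟩, ⟨b, hb⟩⟩, hab⟩ := hE.surjective ⟨m, hm⟩
    exact ⟨(a : G), mem_subgroupOf.1 ha, (b : G), ⟨b, hb, rfl⟩, (congrArg Subtype.val hab).symm⟩

omit [Finite G] in
theorem fpf_map {H M : Subgroup G} (hHM : H ≤ M) {E : Subgroup M}
    (hfpf : ∀ e ∈ E, e ≠ 1 → H.subgroupOf M ⊓ centralizer ({e} : Set M) = ⊥) :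
    ∀ e ∈ E.map M.subtype, e ≠ 1 → H ⊓ centralizer ({e} : Set G) = ⊥ := by
  rintro _ ⟨e, he, rfl⟩ he1
  refine eq_bot_iff.2 fun x hx => mem_bot.2 ?_
  have h : (⟨x, hHM hx.1⟩ : M) ∈ H.subgroupOf M ⊓ centralizer ({e} : Set M) :=
    ⟨mem_subgroupOf.2 hx.1, mem_centralizer_singleton_iff.2 (Subtype.ext (mem_centralizer_singleton_iff.1 hx.2))⟩
  rw [hfpf e he fun h => he1 (by rw [h]; rfl), mem_bot] at h
  exact congrArg Subtype.val h

end Cfsg.Agent.Lib.CNGroup
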